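import Mathlib.Algebra.Polynomial.Reverse
import Mathlib.Algebra.Polynomial.Div
import Mathlib.Algebra.Polynomial.AlgebraMap
import Mathlib.Algebra.CharP.Lemmas
import Mathlib.Algebra.MvPolynomial.CommRing
import Mathlib.RingTheory.Localization.Away.Basic
import Mathlib.RingTheory.Ideal.Quotient.Operations
import Mathlib.Tactic.LinearCombination

/-!
# Sections on the two charts of the universal blow up of two elements
-/

set_option autoImplicit false

universe u

namespace Groth.Agent.FrobH

open Polynomial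

variable {R : Type u} [CommRing R]

theorem add_pow_q {p : ℕ} (hp : p.Prime) (h : (p : R) = 0) (e : ℕ) (x y : R) :
    (x + y) ^ p ^ e = x ^ p ^ e + y ^ p ^ e := by
  obtain ⟨c, hc⟩ := exists_add_pow_prime_pow_eq hp x y e
  rw [hc, h, zero_mul, zero_mul, zero_mul, add_zero]

theorem sub_pow_q {p : ℕ} (hp : p.Prime) (h : (p : R) = 0) (e : ℕ) (x y : R) :
    (x - y) ^ p ^ e = x ^ p ^ e - y ^ p ^ e := by
  have := add_pow_q hp h e (x - y) y
  rw [sub_add_cancel] at this
  exact eq_sub_of_add_eq this.symm

/-- The equation of a chart of the blow up in `(f, g)`. -/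
noncomputable def rel (f g : R) : R[X] := C f * X - C g

/-- The coordinate ring of a chart. -/
abbrev ChartRing (f g : R) : Type u := R[X] ⧸ Ideal.span {rel f g}

/-- The coordinate of a chart. -/
noncomputable abbrev coord (f g : R) : ChartRing f g := Ideal.Quotient.mk _ X

theorem coeff_rel_mul (f g : R) (h : R[X]) (i : ℕ) :
    (rel f g * h).coeff (i + 1) = f * h.coeff i - g * h.coeff (i + 1) := by
  simp [rel, sub_mul, mul_assoc, coeff_X_mul]

theorem coeff_rel_mul_zero (f g : R) (h : R[X]) : (rel f g * h).coeff 0 = - (g * h.coeff 0) := by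
  simp [rel, sub_mul, mul_assoc]

/-- An element which vanishes on both charts squares to zero. -/
theorem sq_eq_zero {f g r : R} (h₁ : algebraMap R (ChartRing f g) r = 0) (h₂ : algebraMap R (ChartRing g f) r = 0) :
    r ^ 2 = 0 := by
  have h₁' : (C r : R[X]) ∈ Ideal.span {rel f g} := Ideal.Quotient.eq_zero_iff_mem.mp h₁
  have h₂' : (C r : R[X]) ∈ Ideal.span {rel g f} := Ideal.Quotient.eq_zero_iff_mem.mp h₂
  obtain ⟨a, ha⟩ := Ideal.mem_span_singleton.mp h₁'
  obtain ⟨b, hb⟩ := Ideal.mem_span_singleton.mp h₂'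
  have ha0 : r = - (g * a.coeff 0) := by rw [← coeff_rel_mul_zero f g, ← ha, coeff_C_zero]
  have hb0 : r = - (f * b.coeff 0) := by rw [← coeff_rel_mul_zero g f, ← hb, coeff_C_zero]
  have haS : ∀ i, g * a.coeff (i + 1) = f * a.coeff i := fun i =>
    (sub_eq_zero.mp ((coeff_rel_mul f g a i).symm.trans (by rw [← ha, coeff_C, if_neg i.succ_ne_zero]))).symm
  have hbS : ∀ i, f * b.coeff (i + 1) = g * b.coeff i := fun i =>
    (sub_eq_zero.mp ((coeff_rel_mul g f b i).symm.trans (by rw [← hb, coeff_C, if_neg i.succ_ne_zero]))).symm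
  have key : ∀ i, r ^ 2 = (g * a.coeff i) * (f * b.coeff i) := fun i => by
    induction i with
    | zero => linear_combination r * ha0 - (g * a.coeff 0) * hb0
    | succ i ih => rw [ih, haS, hbS]; ring
  rw [key (a.natDegree + 1), coeff_eq_zero_of_natDegree_lt (Nat.lt_succ_self _), mul_zero, zero_mul]

/-- Compatible functions on the two charts are constant. -/
theorem exists_const {f g : R} (P Q : R[X]) (N : ℕ) (hN : Q.natDegree ≤ N) (hN1 : 1 ≤ N)
    (h : rel f g ∣ X ^ N * P - Q.reflect N) :
    ∃ r : R, algebraMap R (ChartRing f g) r = Ideal.Quotient.mk _ P ∧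
      algebraMap R (ChartRing g f) r = Ideal.Quotient.mk _ Q := by
  nontriviality R
  obtain ⟨a, ha⟩ := h
  have hmonic : (X ^ N : R[X]).Monic := monic_X_pow N
  let lo := a %ₘ (X ^ N)
  let hi := a /ₘ (X ^ N)
  have hdec : lo + X ^ N * hi = a := modByMonic_add_div a (X ^ N)
  have hlo : lo.natDegree ≤ N - 1 := by
    have := natDegree_modByMonic_lt a hmonic (fun h => by
      have := congrArg natDegree h
      rw [natDegree_X_pow, natDegree_one] at this
      omega)
    rw [natDegree_X_pow] at this
    change natDegree (a %ₘ X ^ N) ≤ N - 1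
    omega
  have hrel : ∀ a b : R, (rel a b).natDegree ≤ 1 := fun a b => by
    refine (natDegree_sub_le _ _).trans (max_le (natDegree_C_mul_le _ _ |>.trans natDegree_X_le) ?_)
    rw [natDegree_C]; exact Nat.zero_le _
  have heq : X ^ N * (P - rel f g * hi) = Q.reflect N + rel f g * lo := by
    linear_combination ha - (rel f g) * hdec
  have hdeg : (X ^ N * (P - rel f g * hi)).natDegree ≤ N := by
    rw [heq]
    refine (natDegree_add_le _ _).trans (max_le (natDegree_reflect_le.trans (max_le le_rfl hN)) ?_)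
    exact natDegree_mul_le.trans (by have := hrel f g; omega)
  have hP : P - rel f g * hi = C ((P - rel f g * hi).coeff 0) := by
    refine Polynomial.ext fun i => ?_
    rcases i with _ | i
    · simp
    · rw [coeff_C, if_neg i.succ_ne_zero]
      have := coeff_eq_zero_of_natDegree_lt (lt_of_le_of_lt hdeg (show N < (i + 1) + N by omega))
      rwa [mul_comm, coeff_mul_X_pow] at this
  refine ⟨(P - rel f g * hi).coeff 0, ?_, ?_⟩
  · show Ideal.Quotient.mk _ (C _) = _
    rw [← hP, Ideal.Quotient.eq]
    exact Ideal.mem_span_singleton.mpr ⟨-hi, by ring⟩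
  · rw [hP] at heq
    have := congrArg (reflect N) heq
    have hswap : reflect 1 (rel f g) = -(rel g f) := by
      have e : rel f g = C f * X ^ 1 - C g * X ^ 0 := by simp [rel]
      rw [e, reflect_sub, reflect_C_mul_X_pow, reflect_C_mul_X_pow, revAt_le le_rfl, revAt_le (Nat.zero_le _)]
      simp [rel]
    rw [reflect_add, mul_comm (X ^ N), reflect_C_mul_X_pow, revAt_le le_rfl, Nat.sub_self, pow_zero, mul_one,
      show reflect N (rel f g * lo) = reflect (1 + (N - 1)) (rel f g * lo) by rw [Nat.add_sub_cancel' hN1],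
      reflect_mul _ _ (hrel f g) hlo, hswap, show reflect N (reflect N Q) = Q from by
        ext i; simp [coeff_reflect]] at this
    show Ideal.Quotient.mk _ (C _) = _
    rw [this, Ideal.Quotient.eq]
    exact Ideal.mem_span_singleton.mpr ⟨-(reflect (N - 1) lo), by ring⟩

/-- Agreement on the overlap of the two charts. -/
theorem exists_dvd {f g : R} (P Q : R[X]) (w : Localization.Away (coord f g))
    (hw : w * algebraMap (ChartRing f g) _ (coord f g) = 1)
    (h : algebraMap (ChartRing f g) (Localization.Away (coord f g)) (Ideal.Quotient.mk _ P) =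
      eval₂ (algebraMap R (Localization.Away (coord f g))) w Q) :
    ∃ N, Q.natDegree ≤ N ∧ 1 ≤ N ∧ rel f g ∣ X ^ N * P - Q.reflect N := by
  let L := Localization.Away (coord f g)
  let ψ : R[X] →+* L := (algebraMap (ChartRing f g) L).comp (Ideal.Quotient.mk _)
  have hψ : ∀ T : R[X], eval₂ (algebraMap R L) (ψ X) T = ψ T := fun T => by
    have : (eval₂RingHom (algebraMap R L) (ψ X)) = ψ := by
      refine Polynomial.ringHom_ext (fun r => ?_) ?_
      · rw [coe_eval₂RingHom, eval₂_C, IsScalarTower.algebraMap_apply R (ChartRing f g) L]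
        rfl
      · rw [coe_eval₂RingHom, eval₂_X]
    exact congr($this T)
  let N₀ := Q.natDegree + 1
  have hN₀ : Q.natDegree ≤ N₀ := Nat.le_succ _
  letI : Invertible (ψ X) := ⟨w, hw, by rw [mul_comm]; exact hw⟩
  have hrefl : ψ (Q.reflect N₀) = eval₂ (algebraMap R L) w Q * ψ X ^ N₀ := by
    rw [← hψ (Q.reflect N₀)]
    have h2 := eval₂_reflect_mul_pow (algebraMap R L) (ψ X) N₀ (Q.reflect N₀)
      (natDegree_reflect_le.trans (max_le le_rfl hN₀))
    rw [← h2, show reflect N₀ (reflect N₀ Q) = Q from by ext i; simp [coeff_reflect]]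
    rfl
  have h0 : ψ (X ^ N₀ * P - Q.reflect N₀) = 0 := by
    rw [map_sub, map_mul, map_pow, hrefl, ← h]
    exact sub_eq_zero.mpr (mul_comm _ _)
  obtain ⟨⟨_, M, rfl⟩, hM⟩ := (IsLocalization.map_eq_zero_iff (Submonoid.powers (coord f g)) L _).mp h0
  refine ⟨M + N₀, hN₀.trans (Nat.le_add_left _ _), by omega, Ideal.mem_span_singleton.mp ?_⟩
  rw [← Ideal.Quotient.eq_zero_iff_mem]
  have e : Q.reflect (M + N₀) = X ^ M * Q.reflect N₀ := by
    have h3 := reflect_mul (1 : R[X]) Q (F := M) (by simp) hN₀
    rw [one_mul] at h3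
    rw [h3, ← C_1, reflect_C, C_1, one_mul]
  rw [e, show X ^ (M + N₀) * P - X ^ M * Q.reflect N₀ = X ^ M * (X ^ N₀ * P - Q.reflect N₀) by ring, map_mul,
    map_pow]
  exact hM

end Groth.Agent.FrobH
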