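import Groth.Agent.FrobH.Alg
import Groth.Agent.HSquare.Lifts
import Mathlib.AlgebraicGeometry.Pullbacks
import Mathlib.RingTheory.Polynomial.Basic
import Mathlib.RingTheory.Localization.FractionRing

/-!
# The charts of the universal blow up of two elements
-/

set_option autoImplicit false
set_option backward.isDefEq.respectTransparency false
set_option backward.isDefEq.respectTransparency.types false

universe u

namespace Groth.Agent.FrobH

open CategoryTheory CategoryTheory.Limits AlgebraicGeometry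
open Groth.Agent.BlowUpLib Groth.Agent.HSquare

theorem isDomain_int : IsDomain (ULift.{u} ℤ) :=
  MulEquiv.isDomain ℤ (ULift.ringEquiv : ULift.{u} ℤ ≃+* ℤ).toMulEquiv

theorem isNoetherianRing_int : IsNoetherianRing (ULift.{u} ℤ) :=
  isNoetherianRing_of_ringEquiv ℤ (ULift.ringEquiv : ULift.{u} ℤ ≃+* ℤ).symm

attribute [local instance] isDomain_int isNoetherianRing_int

/-- The universal ring with two elements. -/
abbrev R₀ : Type u := MvPolynomial (Fin 2) (ULift.{u} ℤ)

/-- The other index. -/
def other (a : Fin 2) : Fin 2 := if a = 0 then 1 else 0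

theorem other_ne (a : Fin 2) : other a ≠ a := by fin_cases a <;> simp [other]

theorem eq_or_eq_other (a b : Fin 2) : b = a ∨ b = other a := by fin_cases a <;> fin_cases b <;> simp [other]

theorem other_other (a : Fin 2) : other (other a) = a := by fin_cases a <;> simp [other]

/-- The universal centre. -/
noncomputable def I₀ : Ideal R₀.{u} := Ideal.span (Set.range MvPolynomial.X)

/-- A generator of the universal centre. -/
noncomputable def gen₀ (a : Fin 2) : (I₀.{u}) := ⟨MvPolynomial.X a, Ideal.subset_span ⟨a, rfl⟩⟩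

/-- The chart ring of the universal blow up. -/
abbrev C₀ (a : Fin 2) : Type u := Chart I₀.{u} (gen₀ a)

/-- The coordinate of a chart of the universal blow up. -/
noncomputable abbrev coord₀ (a : Fin 2) : C₀.{u} a := frac I₀ (gen₀ (other a)) (gen₀ a)

theorem coord₀_mul (a : Fin 2) : coord₀.{u} a * algebraMap R₀ (C₀ a) (MvPolynomial.X a) =
    algebraMap R₀ (C₀ a) (MvPolynomial.X (other a)) :=
  frac_mul I₀ (gen₀ (other a)) (gen₀ a)

theorem mem_range_eval (a : Fin 2) (c : C₀.{u} a) :
    ∃ P : Polynomial R₀.{u}, Polynomial.eval₂ (algebraMap R₀ (C₀ a)) (coord₀ a) P = c := by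
  let θ : Polynomial R₀.{u} →+* C₀.{u} a := Polynomial.eval₂RingHom (algebraMap R₀.{u} (C₀ a)) (coord₀ a)
  suffices h : ∀ q, ∀ hq : q ∈ BlowUp.affineAlgebra R₀ I₀ (gen₀ a : R₀.{u}), ∃ P, θ P = (⟨q, hq⟩ : C₀ a) by
    exact h c.1 c.2
  intro q hq
  have hq' : q ∈ Algebra.adjoin R₀ {q | ∃ x ∈ I₀, q = IsLocalization.mk' (Localization.Away (gen₀ a : R₀)) x
      (⟨(gen₀ a : R₀), Submonoid.mem_powers _⟩ : Submonoid.powers (gen₀ a : R₀))} := hq
  have key : ∀ x, ∀ hx : x ∈ I₀, ∃ P, θ P = frac I₀ ⟨x, hx⟩ (gen₀ a) := by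
    intro x hx
    refine Submodule.span_induction (p := fun x hx => ∃ P, θ P = frac I₀ ⟨x, hx⟩ (gen₀ a)) ?_ ?_ ?_ ?_ hx
    · rintro _ ⟨b, rfl⟩
      rcases eq_or_eq_other a b with rfl | rfl
      · refine ⟨1, (map_one θ).trans (Subtype.ext ?_)⟩
        exact (IsLocalization.mk'_self _ _).symm
      · exact ⟨Polynomial.X, Polynomial.eval₂_X _ _⟩
    · refine ⟨0, (map_zero θ).trans (Subtype.ext ?_)⟩
      exact (IsLocalization.mk'_zero _).symm
    · rintro x y hx hy ⟨P, hP⟩ ⟨Q, hQ⟩
      refine ⟨P + Q, ?_⟩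
      rw [map_add, hP, hQ]
      refine Subtype.ext ?_
      show IsLocalization.mk' _ x _ + IsLocalization.mk' _ y _ = IsLocalization.mk' _ (x + y) _
      rw [IsLocalization.mk'_eq_mul_mk'_one x, IsLocalization.mk'_eq_mul_mk'_one y, ← add_mul, ← map_add,
        ← IsLocalization.mk'_eq_mul_mk'_one]
    · intro r x hx hx'
      obtain ⟨P, hP⟩ := hx'
      refine ⟨Polynomial.C r * P, ?_⟩
      rw [map_mul, hP]
      refine Subtype.ext ?_
      show (θ (Polynomial.C r) : C₀ a).1 * IsLocalization.mk' _ x _ = IsLocalization.mk' _ (r * x) _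
      rw [show θ (Polynomial.C r) = algebraMap R₀ (C₀ a) r from Polynomial.eval₂_C _ _,
        ← IsLocalization.mul_mk'_eq_mk'_of_mul]
      rfl
  induction hq' using Algebra.adjoin_induction with
  | mem q h =>
    obtain ⟨x, hx, rfl⟩ := h
    exact key x hx
  | algebraMap r => exact ⟨Polynomial.C r, (Polynomial.eval₂_C _ _).trans (Subtype.ext rfl)⟩
  | add x y hx hy ihx ihy =>
    obtain ⟨P, hP⟩ := ihx hx; obtain ⟨Q, hQ⟩ := ihy hy
    exact ⟨P + Q, by rw [map_add, hP, hQ]; rfl⟩
  | mul x y hx hy ihx ihy =>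
    obtain ⟨P, hP⟩ := ihx hx; obtain ⟨Q, hQ⟩ := ihy hy
    exact ⟨P * Q, by rw [map_mul, hP, hQ]; rfl⟩

theorem mem_span_of_eval_eq_zero (a : Fin 2) (P : Polynomial R₀.{u})
    (h : Polynomial.eval₂ (algebraMap R₀ (C₀ a)) (coord₀ a) P = 0) :
    P ∈ Ideal.span {rel (MvPolynomial.X a : R₀.{u}) (MvPolynomial.X (other a))} := by
  let Z := ULift.{u} ℤ
  let S := MvPolynomial (Fin 2) Z
  let Ψ₀ : R₀.{u} →+* S := MvPolynomial.eval₂Hom MvPolynomial.C
    (fun b => if b = a then MvPolynomial.X a else MvPolynomial.X a * MvPolynomial.X (other a))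
  let Ψ := Polynomial.eval₂RingHom Ψ₀ (MvPolynomial.X (other a) : S)
  have hΨa : Ψ₀ (MvPolynomial.X a) = MvPolynomial.X a := by simp [Ψ₀]
  have hΨb : Ψ₀ (MvPolynomial.X (other a)) = MvPolynomial.X a * MvPolynomial.X (other a) := by
    simp [Ψ₀, other_ne a]
  -- extend to the fraction field
  let K := FractionRing S
  have hinjK : Function.Injective (algebraMap S K) := IsFractionRing.injective S K
  have ha0 : algebraMap S K (MvPolynomial.X a) ≠ 0 := fun h0 =>
    MvPolynomial.X_ne_zero a (hinjK (h0.trans (map_zero _).symm))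
  let lK : Localization.Away (gen₀ a : R₀.{u}) →+* K :=
    IsLocalization.Away.lift (gen₀ a : R₀.{u}) (g := (algebraMap S K).comp Ψ₀) (by
      show IsUnit (algebraMap S K (Ψ₀ (MvPolynomial.X a)))
      rw [hΨa]; exact isUnit_iff_ne_zero.mpr ha0)
  have hlK : ∀ r, lK (algebraMap R₀ _ r) = algebraMap S K (Ψ₀ r) := fun r => IsLocalization.Away.lift_eq _ _ r
  have hcoord : lK (coord₀ a).1 = algebraMap S K (MvPolynomial.X (other a)) := by
    refine mul_right_cancel₀ ha0 ?_
    have := congrArg (fun c : C₀ a => lK c.1) (coord₀_mul a)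
    change lK ((coord₀ a).1 * algebraMap R₀ _ (MvPolynomial.X a)) = lK (algebraMap R₀ _ (MvPolynomial.X (other a))) at this
    rw [map_mul, hlK, hlK, hΨa, hΨb, map_mul] at this
    rw [this, mul_comm]
  have hΨP : Ψ P = 0 := by
    refine hinjK ((?_ : algebraMap S K (Ψ P) = lK (Polynomial.eval₂ (algebraMap R₀ (C₀ a)) (coord₀ a) P : C₀ a).1).trans
      (by rw [h]; exact (map_zero lK).trans (map_zero _).symm))
    refine DFunLike.congr_fun (f := (algebraMap S K).comp Ψ)
      (g := lK.comp ((Subalgebra.val _).toRingHom.comp (Polynomial.eval₂RingHom (algebraMap R₀ (C₀ a)) (coord₀ a))))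
      (Polynomial.ringHom_ext (fun r => ?_) ?_) P
    · simp only [RingHom.comp_apply, Ψ, Polynomial.coe_eval₂RingHom, Polynomial.eval₂_C]
      exact (hlK r).symm
    · simp only [RingHom.comp_apply, Ψ, Polynomial.coe_eval₂RingHom, Polynomial.eval₂_X]
      exact hcoord.symm
  -- a section of the substitution modulo the relation
  let ι : S →+* ChartRing (MvPolynomial.X a : R₀.{u}) (MvPolynomial.X (other a)) :=
    MvPolynomial.eval₂Hom ((algebraMap R₀ _).comp MvPolynomial.C)
      (fun b => if b = a then algebraMap R₀ _ (MvPolynomial.X a) else coord _ _)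
  have hιC : ∀ n, ι (MvPolynomial.C n) = algebraMap R₀.{u} _ (MvPolynomial.C n) :=
    fun n => MvPolynomial.eval₂Hom_C _ _ n
  have hιa : ι (MvPolynomial.X a) = algebraMap R₀.{u} _ (MvPolynomial.X a) :=
    (MvPolynomial.eval₂Hom_X' _ _ a).trans (if_pos rfl)
  have hιb : ι (MvPolynomial.X (other a)) = coord _ _ :=
    (MvPolynomial.eval₂Hom_X' _ _ (other a)).trans (if_neg (other_ne a))
  have hΨC : ∀ n, Ψ₀ (MvPolynomial.C n) = MvPolynomial.C n := fun n => MvPolynomial.eval₂Hom_C _ _ n
  have hι : ι.comp Ψ = Ideal.Quotient.mk _ := by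
    refine Polynomial.ringHom_ext (fun r => ?_) ?_
    · rw [RingHom.comp_apply, show Ψ (Polynomial.C r) = Ψ₀ r from Polynomial.eval₂_C _ _]
      refine DFunLike.congr_fun (f := ι.comp Ψ₀) (g := algebraMap R₀.{u} (ChartRing _ _))
        (MvPolynomial.ringHom_ext (fun n => ?_) fun b => ?_) r
      · rw [RingHom.comp_apply, hΨC, hιC]
      · rw [RingHom.comp_apply]
        rcases eq_or_eq_other a b with rfl | rfl
        · rw [hΨa, hιa]
        · rw [hΨb, map_mul, hιa, hιb]
          refine (map_mul (Ideal.Quotient.mk _) (Polynomial.C _) Polynomial.X).symm.trans (Ideal.Quotient.eq.mpr ?_)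
          exact Ideal.mem_span_singleton_self _
    · rw [RingHom.comp_apply, show Ψ Polynomial.X = MvPolynomial.X (other a) from Polynomial.eval₂_X _ _, hιb]
  exact Ideal.Quotient.eq_zero_iff_mem.mp ((congr($hι P)).symm.trans ((congrArg ι hΨP).trans (map_zero ι)))

variable {R : Type u} [CommRing R] (φ : R₀.{u} →+* R) (a : Fin 2)

/-- The chart ring over `R`. -/
abbrev A : Type u := ChartRing (φ (MvPolynomial.X a)) (φ (MvPolynomial.X (other a)))

/-- The coordinate over `R`. -/
noncomputable abbrev coordA : A φ a := coord (φ (MvPolynomial.X a)) (φ (MvPolynomial.X (other a)))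

theorem coordA_mul : coordA φ a * algebraMap R (A φ a) (φ (MvPolynomial.X a)) =
    algebraMap R (A φ a) (φ (MvPolynomial.X (other a))) := by
  show Ideal.Quotient.mk _ Polynomial.X * Ideal.Quotient.mk _ (Polynomial.C _) = Ideal.Quotient.mk _ (Polynomial.C _)
  rw [← map_mul, Ideal.Quotient.eq, mul_comm]
  exact Ideal.mem_span_singleton_self _

theorem exists_ofChart : ∃ c : C₀.{u} a →+* A φ a,
    c.comp (algebraMap R₀ (C₀ a)) = (algebraMap R (A φ a)).comp φ ∧ c (coord₀ a) = coordA φ a := by
  choose P hP using mem_range_eval.{u} a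
  let ev : Polynomial R₀.{u} →+* A φ a := Polynomial.eval₂RingHom ((algebraMap R (A φ a)).comp φ) (coordA φ a)
  have hker : ∀ Q, Polynomial.eval₂ (algebraMap R₀ (C₀ a)) (coord₀ a) Q = 0 → ev Q = 0 := fun Q hQ => by
    obtain ⟨T, rfl⟩ := Ideal.mem_span_singleton.mp (mem_span_of_eval_eq_zero a Q hQ)
    refine (map_mul ev _ _).trans ?_
    have hrel : ev (rel (MvPolynomial.X a : R₀.{u}) (MvPolynomial.X (other a))) = 0 := by
      refine (Polynomial.eval₂_sub _).trans ?_
      rw [Polynomial.eval₂_mul, Polynomial.eval₂_C, Polynomial.eval₂_X, Polynomial.eval₂_C,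
        RingHom.comp_apply, RingHom.comp_apply, mul_comm, coordA_mul, sub_self]
    rw [hrel, zero_mul]
  let θ : Polynomial R₀.{u} →+* C₀.{u} a := Polynomial.eval₂RingHom (algebraMap R₀.{u} (C₀ a)) (coord₀ a)
  have hinv : Function.RightInverse P θ := hP
  have hker' : RingHom.ker θ ≤ RingHom.ker ev := fun Q hQ => hker Q hQ
  let c := RingHom.liftOfRightInverse θ P hinv ⟨ev, hker'⟩
  have hc : ∀ Q, c (θ Q) = ev Q := fun Q =>
    DFunLike.congr_fun (RingHom.liftOfRightInverse_comp θ P hinv ⟨ev, hker'⟩) Q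
  refine ⟨c, RingHom.ext fun r => ?_, ?_⟩
  · have := hc (Polynomial.C r)
    simpa [θ, ev] using this
  · have := hc Polynomial.X
    simpa [θ, ev] using this

/-- The map from the universal chart. -/
noncomputable def ofChart : C₀.{u} a →+* A φ a := (exists_ofChart φ a).choose

theorem ofChart_algebraMap (r : R₀.{u}) : ofChart φ a (algebraMap R₀ (C₀ a) r) = algebraMap R (A φ a) (φ r) :=
  congr($((exists_ofChart φ a).choose_spec.1) r)

theorem ofChart_coord : ofChart φ a (coord₀ a) = coordA φ a := (exists_ofChart φ a).choose_spec.2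

theorem chart_hom_ext {T : Type u} [CommRing T] {u v : C₀.{u} a →+* T}
    (h : ∀ r, u (algebraMap R₀ (C₀ a) r) = v (algebraMap R₀ (C₀ a) r)) (h' : u (coord₀ a) = v (coord₀ a)) :
    u = v := by
  refine RingHom.ext fun c => ?_
  obtain ⟨P, rfl⟩ := mem_range_eval a c
  refine DFunLike.congr_fun (f := u.comp (Polynomial.eval₂RingHom _ _)) (g := v.comp (Polynomial.eval₂RingHom _ _))
    (Polynomial.ringHom_ext (fun r => ?_) ?_) P
  · simpa using h r
  · simpa using h'

theorem isPushout_chart : IsPushout (CommRingCat.ofHom (algebraMap R₀.{u} (C₀ a))) (CommRingCat.ofHom φ)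
    (CommRingCat.ofHom (ofChart φ a)) (CommRingCat.ofHom (algebraMap R (A φ a))) := by
  have w : CommRingCat.ofHom (algebraMap R₀.{u} (C₀ a)) ≫ CommRingCat.ofHom (ofChart φ a) =
      CommRingCat.ofHom φ ≫ CommRingCat.ofHom (algebraMap R (A φ a)) :=
    CommRingCat.hom_ext (RingHom.ext fun r => ofChart_algebraMap φ a r)
  have rel0 : ∀ s : PushoutCocone (CommRingCat.ofHom (algebraMap R₀.{u} (C₀ a))) (CommRingCat.ofHom φ),
      Ideal.span {rel (φ (MvPolynomial.X a)) (φ (MvPolynomial.X (other a)))} ≤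
        RingHom.ker (Polynomial.eval₂RingHom s.inr.hom (s.inl.hom (coord₀ a))) := fun s => by
    have hs : ∀ r, s.inr.hom (φ r) = s.inl.hom (algebraMap R₀ (C₀ a) r) := fun r =>
      (congr($(s.condition).hom r)).symm
    rw [Ideal.span_singleton_le_iff_mem, RingHom.mem_ker]
    simp only [rel, map_sub, map_mul, Polynomial.coe_eval₂RingHom, Polynomial.eval₂_C, Polynomial.eval₂_X, hs]
    rw [← map_mul, mul_comm, coord₀_mul, sub_self]
  refine IsPushout.of_isColimit (PushoutCocone.IsColimit.mk w
    (fun s => CommRingCat.ofHom (Ideal.Quotient.lift _ _ (rel0 s))) (fun s => ?_) (fun s => ?_) fun s m h₁ h₂ => ?_)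
  · refine CommRingCat.hom_ext (chart_hom_ext a (fun r => ?_) ?_)
    · show Ideal.Quotient.lift _ _ (rel0 s) (ofChart φ a (algebraMap R₀ (C₀ a) r)) = s.inl.hom _
      rw [ofChart_algebraMap]
      exact (Polynomial.eval₂_C _ _).trans (congr($(s.condition).hom r)).symm
    · show Ideal.Quotient.lift _ _ (rel0 s) (ofChart φ a (coord₀ a)) = s.inl.hom _
      rw [ofChart_coord]
      exact Polynomial.eval₂_X _ _
  · exact CommRingCat.hom_ext (RingHom.ext fun r => Polynomial.eval₂_C _ _)
  · refine CommRingCat.hom_ext (Ideal.Quotient.ringHom_ext (Polynomial.ringHom_ext (fun r => ?_) ?_))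
    · show m.hom (algebraMap R (A φ a) r) = Polynomial.eval₂ _ _ (Polynomial.C r)
      rw [Polynomial.eval₂_C]
      exact congr($(h₂).hom r)
    · show m.hom (coordA φ a) = Polynomial.eval₂ _ _ Polynomial.X
      rw [Polynomial.eval₂_X, ← ofChart_coord]
      exact congr($(h₁).hom (coord₀ a))

/-- The overlap ring. -/
abbrev L : Type u := Localization.Away (coordA φ a)

theorem coordA_swap_eq (w : L φ a) (hw : w * algebraMap (A φ a) (L φ a) (coordA φ a) = 1) :
    algebraMap R (L φ a) (φ (MvPolynomial.X (other a))) * w = algebraMap R (L φ a) (φ (MvPolynomial.X a)) := by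
  have := congrArg (algebraMap (A φ a) (L φ a)) (coordA_mul φ a)
  rw [map_mul, ← IsScalarTower.algebraMap_apply, ← IsScalarTower.algebraMap_apply] at this
  rw [← this, mul_comm (algebraMap (A φ a) (L φ a) _), mul_assoc, mul_comm _ w, hw, mul_one]

/-- The map of the other chart to the overlap. -/
noncomputable def swapMap : A φ (other a) →+* L φ a :=
  Ideal.Quotient.lift _ (Polynomial.eval₂RingHom (algebraMap R (L φ a)) (IsLocalization.Away.invSelf (coordA φ a))) (by
    intro x hx
    obtain ⟨T, rfl⟩ := Ideal.mem_span_singleton.mp hx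
    rw [map_mul]
    convert zero_mul _
    simp only [rel, other_other, map_sub, map_mul, Polynomial.coe_eval₂RingHom, Polynomial.eval₂_C,
      Polynomial.eval₂_X]
    rw [coordA_swap_eq φ a _ (by rw [mul_comm]; exact IsLocalization.Away.mul_invSelf _), sub_self])

theorem swapMap_algebraMap (r : R) : swapMap φ a (algebraMap R (A φ (other a)) r) = algebraMap R (L φ a) r :=
  Polynomial.eval₂_C _ _

theorem swapMap_mk (Q : Polynomial R) :
    swapMap φ a (Ideal.Quotient.mk _ Q) = Polynomial.eval₂ (algebraMap R (L φ a))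
      (IsLocalization.Away.invSelf (coordA φ a)) Q := rfl

theorem X_ne_zero_chart : algebraMap R₀.{u} (C₀ a) (MvPolynomial.X (other a)) ≠ 0 := fun h => by
  have h' : algebraMap R₀.{u} (Localization.Away (gen₀.{u} a : R₀.{u})) (MvPolynomial.X (other a)) = 0 :=
    congrArg Subtype.val h
  exact MvPolynomial.X_ne_zero (other a) ((IsLocalization.injective (Localization.Away (gen₀.{u} a : R₀.{u}))
    (M := Submonoid.powers (gen₀.{u} a : R₀.{u}))
    (powers_le_nonZeroDivisors_of_noZeroDivisors (MvPolynomial.X_ne_zero a))) (h'.trans (map_zero _).symm))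

/-- The charts agree on the overlap. -/
theorem overlap_eq :
    Spec.map (CommRingCat.ofHom ((algebraMap (A φ a) (L φ a)).comp (ofChart φ a))) ≫ chart I₀ (gen₀.{u} a) =
      Spec.map (CommRingCat.ofHom ((swapMap φ a).comp (ofChart φ (other a)))) ≫ chart I₀ (gen₀.{u} (other a)) := by
  haveI : IsDomain (Localization.Away (gen₀.{u} a : R₀.{u})) := IsLocalization.isDomain_localization
    (powers_le_nonZeroDivisors_of_noZeroDivisors (MvPolynomial.X_ne_zero a))
  let c := coord₀.{u} a
  have hc0 : c ≠ 0 := fun h => X_ne_zero_chart a (by rw [← coord₀_mul]; exact mul_eq_zero_of_left h _)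
  let L₀ := Localization.Away c
  haveI : IsDomain L₀ := IsLocalization.isDomain_localization (powers_le_nonZeroDivisors_of_noZeroDivisors hc0)
  let k : C₀.{u} a →+* L₀ := algebraMap _ _
  let ψ : R₀.{u} →+* L₀ := k.comp (algebraMap R₀ (C₀ a))
  have hinv : IsLocalization.Away.invSelf c * k c = 1 := by rw [mul_comm]; exact IsLocalization.Away.mul_invSelf c
  have hswap : ψ (MvPolynomial.X a) = ψ (MvPolynomial.X (other a)) * IsLocalization.Away.invSelf c := by
    show k (algebraMap R₀.{u} (C₀ a) (MvPolynomial.X a)) =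
      k (algebraMap R₀.{u} (C₀ a) (MvPolynomial.X (other a))) * _
    rw [← coord₀_mul, map_mul, mul_comm (k c), mul_assoc, mul_comm (k c), hinv, mul_one]
  have hb : ψ (MvPolynomial.X (other a)) ≠ 0 := fun h => X_ne_zero_chart a
    (IsLocalization.injective L₀ (powers_le_nonZeroDivisors_of_noZeroDivisors hc0) (h.trans (map_zero _).symm))
  have hI : I₀.map ψ ≤ Ideal.span {ψ (MvPolynomial.X (other a))} := by
    refine le_of_eq_of_le (Ideal.map_span ψ _) (Ideal.span_le.mpr ?_)
    rintro _ ⟨_, ⟨b, rfl⟩, rfl⟩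
    rcases eq_or_eq_other a b with rfl | rfl
    · exact Ideal.mem_span_singleton.mpr ⟨_, hswap⟩
    · exact Ideal.mem_span_singleton_self _
  obtain ⟨k', hk'⟩ := exists_hom_affineAlgebra I₀ (gen₀.{u} (other a)) ψ (mem_nonZeroDivisors_of_ne_zero hb) hI
  have hk'c : k' (coord₀ (other a)) = IsLocalization.Away.invSelf c := by
    refine mul_right_cancel₀ hb ?_
    have := congrArg k' (coord₀_mul.{u} (other a))
    rw [map_mul, ← RingHom.comp_apply, ← RingHom.comp_apply, hk', other_other] at this
    rw [this, hswap, mul_comm]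
  have h₀ : Spec.map (CommRingCat.ofHom k) ≫ chart I₀ (gen₀.{u} a) =
      Spec.map (CommRingCat.ofHom k') ≫ chart I₀ (gen₀.{u} (other a)) := by
    refine unique_lift I₀ (g := Spec.map (CommRingCat.ofHom ψ)) ?_ _ _ ?_ ?_
    · haveI : Flat (Spec.map (CommRingCat.ofHom k)) := by
        haveI : IsOpenImmersion (Spec.map (CommRingCat.ofHom k)) := IsOpenImmersion.of_isLocalization c
        infer_instance
      rw [show Spec.map (CommRingCat.ofHom ψ) = Spec.map (CommRingCat.ofHom k) ≫
        Spec.map (CommRingCat.ofHom (algebraMap R₀ (C₀ a))) by rw [← Spec.map_comp]; rfl,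
        Scheme.IdealSheafData.comap_comp]
      exact isEffCartier_comap_flat _ (isEffCartier_chart I₀ (gen₀ a))
    · rw [Category.assoc, chart_toBase, ← Spec.map_comp]; rfl
    · rw [Category.assoc, chart_toBase, ← Spec.map_comp, ← CommRingCat.ofHom_comp, hk']
  let j := (algebraMap (A φ a) (L φ a)).comp (ofChart φ a)
  let m : L₀ →+* L φ a := IsLocalization.Away.lift c (g := j) (by
    show IsUnit (algebraMap (A φ a) (L φ a) (ofChart φ a c))
    change IsUnit (algebraMap (A φ a) (L φ a) (ofChart φ a (coord₀ a)))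
    rw [ofChart_coord]
    exact IsLocalization.Away.algebraMap_isUnit _)
  have hm : ∀ x, m (k x) = j x := fun x => IsLocalization.Away.lift_eq _ _ x
  have e₁ : m.comp k = j := RingHom.ext hm
  have e₂ : m.comp k' = (swapMap φ a).comp (ofChart φ (other a)) := by
    refine chart_hom_ext (other a) (fun r => ?_) ?_
    · show m (k' _) = swapMap φ a (ofChart φ (other a) _)
      refine (congrArg m (congr($hk' r))).trans ?_
      rw [ofChart_algebraMap, swapMap_algebraMap]
      show m (k _) = _
      rw [hm, RingHom.comp_apply]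
      exact (congrArg (algebraMap (A φ a) (L φ a)) (ofChart_algebraMap φ a r)).trans
        (IsScalarTower.algebraMap_apply _ _ _ _).symm
    · show m (k' _) = swapMap φ a _
      rw [hk'c, ofChart_coord, swapMap_mk, Polynomial.eval₂_X]
      refine (IsLocalization.Away.algebraMap_isUnit (S := L φ a) (coordA φ a)).mul_left_inj.mp ?_
      have h1 := congrArg m hinv
      rw [map_mul, map_one, hm] at h1
      have h2 : j c = algebraMap (A φ a) (L φ a) (coordA φ a) := by
        show algebraMap (A φ a) (L φ a) (ofChart φ a (coord₀ a)) = _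
        rw [ofChart_coord]
      rw [h2] at h1
      rw [h1, mul_comm, IsLocalization.Away.mul_invSelf]
  rw [← e₂, show (algebraMap (A φ a) (L φ a)).comp (ofChart φ a) = m.comp k from e₁.symm,
    CommRingCat.ofHom_comp, CommRingCat.ofHom_comp, Spec.map_comp, Spec.map_comp, Category.assoc, Category.assoc, h₀]

theorem exists_mem_chart (x : localBlowUp I₀.{u}) : ∃ a : Fin 2, x ∈ (chart I₀ (gen₀ a)).opensRange := by
  obtain ⟨b, z, hz⟩ := chart_covers I₀ x
  by_contra h
  push Not at h
  have hno : ∀ i : Fin 2, ¬ IsUnit (1 : ℕ) ∨ frac I₀ (gen₀.{u} i) b ∈ z.asIdeal := fun i => Or.inr (by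
    by_contra hi
    exact h i (hz ▸ chart_overlap I₀ (gen₀ i) b hi))
  refine z.2.ne_top ((Ideal.eq_top_iff_one _).mpr ?_)
  have key : ∀ y, ∀ hy : y ∈ I₀.{u}, frac I₀ ⟨y, hy⟩ b ∈ z.asIdeal := by
    intro y hy
    refine Submodule.span_induction (p := fun y hy => frac I₀ ⟨y, hy⟩ b ∈ z.asIdeal) ?_ ?_ ?_ ?_ hy
    · rintro _ ⟨i, rfl⟩
      exact (hno i).resolve_left (not_not_intro isUnit_one)
    · have e : frac I₀ ⟨0, zero_mem I₀⟩ b = 0 := Subtype.ext (IsLocalization.mk'_zero _)
      rw [e]; exact zero_mem _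
    · intro y w hy hw hy' hw'
      convert add_mem hy' hw' using 1
      refine Subtype.ext ?_
      show IsLocalization.mk' _ (y + w) _ = IsLocalization.mk' _ y _ + IsLocalization.mk' _ w _
      rw [IsLocalization.mk'_eq_mul_mk'_one y, IsLocalization.mk'_eq_mul_mk'_one w, ← add_mul, ← map_add,
        ← IsLocalization.mk'_eq_mul_mk'_one]
    · intro r y hy hy'
      convert Ideal.mul_mem_left z.asIdeal (algebraMap R₀ (Chart I₀ b) r) hy' using 1
      refine Subtype.ext ?_
      show IsLocalization.mk' _ (r * y) _ = algebraMap R₀ _ r * IsLocalization.mk' _ y _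
      rw [← IsLocalization.mul_mk'_eq_mk'_of_mul]
  have e1 : frac I₀ b b = 1 := Subtype.ext (IsLocalization.mk'_self _ _)
  exact e1 ▸ key b.1 b.2

end Groth.Agent.FrobH
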