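import Mathlib.AlgebraicGeometry.Sites.BigZariski
import Mathlib.AlgebraicGeometry.Morphisms.QuasiSeparated
import Mathlib.CategoryTheory.Sites.LocallySurjective
import Mathlib.CategoryTheory.Sites.Over

/-!
# Locally bijective maps of presheaves on the big Zariski site, on quasi-compact objects

A map from a presheaf satisfying the sheaf condition for finite covers to a sheaf, if locally
bijective, is bijective on quasi-compact quasi-separated objects.
-/

set_option autoImplicit false
set_option backward.isDefEq.respectTransparency false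
set_option backward.isDefEq.respectTransparency.types false

universe w u

namespace Groth.Agent.FrobH

open CategoryTheory CategoryTheory.Limits AlgebraicGeometry Opposite

variable {S : Scheme.{u}}

/-- An open subscheme as an object over the base. -/
noncomputable abbrev ov {X : Over S} (U : X.left.Opens) : Over S := Over.mk (U.ι ≫ X.hom)

/-- Its inclusion. -/
noncomputable abbrev ovι {X : Over S} (U : X.left.Opens) : ov U ⟶ X := Over.homMk U.ι rfl

/-- The inclusion of a smaller open. -/
noncomputable abbrev ovLE {X : Over S} {U V : X.left.Opens} (h : U ≤ V) : ov U ⟶ ov V :=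
  Over.homMk (X.left.homOfLE h) (show X.left.homOfLE h ≫ V.ι ≫ X.hom = _ by rw [Scheme.homOfLE_ι_assoc]; rfl)

theorem ovLE_ι {X : Over S} {U V : X.left.Opens} (h : U ≤ V) : ovLE h ≫ ovι V = ovι U :=
  Over.OverMorphism.ext (Scheme.homOfLE_ι _ h)

theorem exists_finite_cover {X : Over S} [CompactSpace X.left] {R : Sieve X}
    (hR : R ∈ Scheme.zariskiTopology.over S X) :
    ∃ (ι : Type u) (_ : Finite ι) (U : ι → X.left.Opens),
      (∀ i, IsAffineOpen (U i)) ∧ (∀ x, ∃ i, x ∈ U i) ∧ ∀ i, R (ovι (U i)) := by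
  obtain ⟨𝒰, hle⟩ := Scheme.mem_grothendieckTopology_iff.mp ((GrothendieckTopology.mem_over_iff _ R).mp hR)
  have hpt : ∀ x : X.left, ∃ V : X.left.Opens, IsAffineOpen V ∧ x ∈ V ∧ R (ovι V) := by
    intro x
    obtain ⟨j, z, hz⟩ := 𝒰.exists_eq x
    obtain ⟨_, ⟨V, hV, rfl⟩, hxV, hVle⟩ := X.left.isBasis_affineOpens.exists_subset_of_mem_open
      (a := x) (u := Set.range (𝒰.f j)) ⟨z, hz⟩ (𝒰.f j).isOpenEmbedding.isOpen_range
    refine ⟨V, hV, hxV, ?_⟩
    have h₁ := (Sieve.overEquiv X R).downward_closed (hle _ _ (Presieve.ofArrows.mk j))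
      (IsOpenImmersion.lift (𝒰.f j) (Scheme.Opens.ι V) (by rw [Scheme.Opens.range_ι]; exact hVle))
    rw [IsOpenImmersion.lift_fac] at h₁
    exact (Sieve.overEquiv_iff R (Scheme.Opens.ι V)).mp h₁
  choose V hV hxV hRV using hpt
  obtain ⟨t, ht⟩ := isCompact_univ.elim_finite_subcover (fun x : X.left => (V x : Set X.left))
    (fun x => (V x).2) fun x _ => Set.mem_iUnion.mpr ⟨x, hxV x⟩
  refine ⟨t, inferInstance, fun x => V x, fun x => hV x, fun y => ?_, fun x => hRV x⟩
  obtain ⟨x, hx, hy⟩ := Set.mem_iUnion₂.mp (ht (Set.mem_univ y))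
  exact ⟨⟨x, hx⟩, hy⟩

theorem mem_of_cover {X : Over S} {ι : Type u} (U : ι → X.left.Opens) (hU : ∀ x, ∃ i, x ∈ U i) {R : Sieve X}
    (hR : ∀ i, R (ovι (U i))) : R ∈ Scheme.zariskiTopology.over S X := by
  rw [GrothendieckTopology.mem_over_iff]
  refine GrothendieckTopology.superset_covering _ ?_
    (Scheme.Cover.mem_grothendieckTopology (X.left.openCoverOfIsOpenCover U
      (eq_top_iff.mpr fun x _ => TopologicalSpace.Opens.mem_iSup.mpr (hU x))))
  rintro W g ⟨W', a, b, ⟨i⟩, rfl⟩
  exact (Sieve.overEquiv X R).downward_closed ((Sieve.overEquiv_iff R (U i).ι).mpr (hR i)) a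

variable {F G : (Over S)ᵒᵖ ⥤ Type w} (η : F ⟶ G)

theorem app_map {X Y : Over S} (f : Y ⟶ X) (s : F.obj (op X)) :
    η.app (op Y) (F.map f.op s) = G.map f.op (η.app (op X) s) := NatTrans.naturality_apply η f.op s

theorem injective_of_locally
    (hsep : ∀ (X : Over S) (ι : Type u) [Finite ι] (U : ι → X.left.Opens), (∀ x, ∃ i, x ∈ U i) →
      ∀ s t : F.obj (op X), (∀ i, F.map (ovι (U i)).op s = F.map (ovι (U i)).op t) → s = t)
    [Presheaf.IsLocallyInjective (Scheme.zariskiTopology.over S) η] (X : Over S) [CompactSpace X.left] :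
    Function.Injective (η.app (op X)) := by
  intro s t hst
  obtain ⟨ι, _, U, -, hU, hR⟩ := exists_finite_cover
    (Presheaf.equalizerSieve_mem (Scheme.zariskiTopology.over S) η (X := op X) s t hst)
  exact hsep X ι U hU s t hR

theorem surjective_of_locally
    (hsep : ∀ (X : Over S) (ι : Type u) [Finite ι] (U : ι → X.left.Opens), (∀ x, ∃ i, x ∈ U i) →
      ∀ s t : F.obj (op X), (∀ i, F.map (ovι (U i)).op s = F.map (ovι (U i)).op t) → s = t)
    (hglue : ∀ (X : Over S) (ι : Type u) [Finite ι] (U : ι → X.left.Opens), (∀ x, ∃ i, x ∈ U i) →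
      ∀ s : ∀ i, F.obj (op (ov (U i))),
        (∀ i j, F.map (ovLE (inf_le_left : U i ⊓ U j ≤ U i)).op (s i) =
          F.map (ovLE (inf_le_right : U i ⊓ U j ≤ U j)).op (s j)) →
        ∃ a, ∀ i, F.map (ovι (U i)).op a = s i)
    (hG : Presieve.IsSheaf (Scheme.zariskiTopology.over S) G)
    [Presheaf.IsLocallyInjective (Scheme.zariskiTopology.over S) η]
    [Presheaf.IsLocallySurjective (Scheme.zariskiTopology.over S) η]
    (X : Over S) [CompactSpace X.left] [QuasiSeparatedSpace X.left] :
    Function.Surjective (η.app (op X)) := by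
  intro t
  obtain ⟨ι, _, U, hUa, hU, hR⟩ := exists_finite_cover
    (Presheaf.imageSieve_mem (Scheme.zariskiTopology.over S) η (U := op X) t)
  choose s hs using hR
  obtain ⟨a, ha⟩ := hglue X ι U hU s fun i j => by
    haveI : CompactSpace (ov (U i ⊓ U j)).left := isCompact_iff_compactSpace.mp
      (QuasiSeparatedSpace.inter_isCompact _ _ (U i).2 (hUa i).isCompact (U j).2 (hUa j).isCompact)
    refine injective_of_locally η hsep _ ?_
    rw [app_map, app_map, hs, hs, ← Functor.map_comp_apply, ← Functor.map_comp_apply, ← op_comp, ← op_comp,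
      ovLE_ι, ovLE_ι]
  refine ⟨a, (hG.isSeparated _ (mem_of_cover U hU (R := Presheaf.equalizerSieve (F := G) (X := op X) (η.app (op X) a) t)
    fun i => ?_)).ext fun Y f hf => hf⟩
  show G.map (ovι (U i)).op (η.app (op X) a) = G.map (ovι (U i)).op t
  rw [← app_map, ha, hs]

theorem bijective_of_locally
    (hsep : ∀ (X : Over S) (ι : Type u) [Finite ι] (U : ι → X.left.Opens), (∀ x, ∃ i, x ∈ U i) →
      ∀ s t : F.obj (op X), (∀ i, F.map (ovι (U i)).op s = F.map (ovι (U i)).op t) → s = t)
    (hglue : ∀ (X : Over S) (ι : Type u) [Finite ι] (U : ι → X.left.Opens), (∀ x, ∃ i, x ∈ U i) →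
      ∀ s : ∀ i, F.obj (op (ov (U i))),
        (∀ i j, F.map (ovLE (inf_le_left : U i ⊓ U j ≤ U i)).op (s i) =
          F.map (ovLE (inf_le_right : U i ⊓ U j ≤ U j)).op (s j)) →
        ∃ a, ∀ i, F.map (ovι (U i)).op a = s i)
    (hG : Presieve.IsSheaf (Scheme.zariskiTopology.over S) G)
    [Presheaf.IsLocallyInjective (Scheme.zariskiTopology.over S) η]
    [Presheaf.IsLocallySurjective (Scheme.zariskiTopology.over S) η]
    (X : Over S) [CompactSpace X.left] [QuasiSeparatedSpace X.left] :
    Function.Bijective (η.app (op X)) :=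
  ⟨injective_of_locally η hsep X, surjective_of_locally η hsep hglue hG X⟩

end Groth.Agent.FrobH
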