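import Groth.Agent.FrobH.Lim
import Groth.Agent.FrobH.Qcqs

/-!
# Functions up to `p`-th powers: the h sheaf and its values
-/

set_option autoImplicit false
set_option backward.isDefEq.respectTransparency false
set_option backward.isDefEq.respectTransparency.types false

universe u

namespace Groth.Agent.FrobH

open CategoryTheory CategoryTheory.Limits AlgebraicGeometry HTop Opposite

variable {p : ℕ} {X : Scheme.{u}}

theorem mk_pow (n j : ℕ) (a : Γ(X, ⊤)) :
    FrobColimSections.mk p n a = FrobColimSections.mk p (n + j) (a ^ p ^ j) := by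
  induction j with
  | zero => simp
  | succ j ih => rw [ih, FrobColimSections.sound, ← pow_mul, ← pow_succ]; rfl

theorem mk_eq_mk {n m : ℕ} {a b : Γ(X, ⊤)} :
    FrobColimSections.mk p n a = FrobColimSections.mk p m b ↔ ∃ k, a ^ p ^ (m + k) = b ^ p ^ (n + k) := by
  refine ⟨fun h => ?_, fun ⟨k, hk⟩ => ?_⟩
  · have key : ∀ x y : ℕ × Γ(X, ⊤), Relation.EqvGen (FrobColimRel p X) x y →
        ∃ k, x.2 ^ p ^ (y.1 + k) = y.2 ^ p ^ (x.1 + k) := by
      intro x y hxy
      induction hxy with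
      | rel x y hr =>
        obtain rfl : y = (x.1 + 1, x.2 ^ p) := hr
        exact ⟨0, by simp [← pow_mul, ← pow_succ']⟩
      | refl x => exact ⟨0, rfl⟩
      | symm x y _ ih => exact ih.imp fun k hk => hk.symm
      | trans x y z _ _ ih₁ ih₂ =>
        obtain ⟨k, hk⟩ := ih₁
        obtain ⟨l, hl⟩ := ih₂
        refine ⟨y.1 + k + l, ?_⟩
        rw [show z.1 + (y.1 + k + l) = y.1 + k + (z.1 + l) by omega, pow_add, pow_mul, hk,
          ← pow_mul, mul_comm, pow_mul, hl, ← pow_mul, mul_comm, ← pow_add,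
          show x.1 + k + (y.1 + l) = x.1 + (y.1 + k + l) by omega]
    exact key _ _ (Quot.eqvGen_exact h)
  · rw [mk_pow n (m + k) a, mk_pow m (n + k) b, hk, add_left_comm n m k]

theorem mk_eq_mk_self {n : ℕ} {a b : Γ(X, ⊤)} :
    FrobColimSections.mk p n a = FrobColimSections.mk p n b ↔ ∃ k, a ^ p ^ k = b ^ p ^ k := by
  rw [mk_eq_mk]
  refine ⟨fun ⟨k, hk⟩ => ⟨n + k, hk⟩, fun ⟨k, hk⟩ => ⟨k, ?_⟩⟩
  rw [add_comm n k, pow_add, pow_mul, pow_mul, hk]

theorem pow_mono {A : Type u} [Monoid A] {k l : ℕ} {a b : A} (h : a ^ p ^ k = b ^ p ^ k) (hkl : k ≤ l) :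
    a ^ p ^ l = b ^ p ^ l := by
  obtain ⟨d, rfl⟩ := Nat.exists_eq_add_of_le hkl
  rw [pow_add, pow_mul, pow_mul, h]

theorem exists_mk (x : FrobColimSections p X) : ∃ N a, x = FrobColimSections.mk p N a := by
  induction x using Quot.ind with | mk y => exact ⟨y.1, y.2, rfl⟩

/-- Sections glue along an open cover. -/
theorem exists_glue {ι : Type u} (U : ι → X.Opens) (hU : ∀ x, ∃ i, x ∈ U i) (a : ∀ i, Γ((U i : Scheme.{u}), ⊤))
    (h : ∀ i j, (X.homOfLE (inf_le_left : U i ⊓ U j ≤ U i)).appTop.hom (a i) =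
      (X.homOfLE (inf_le_right : U i ⊓ U j ≤ U j)).appTop.hom (a j)) :
    ∃ c : Γ(X, ⊤), ∀ i, (U i).ι.appTop.hom c = a i := by
  let 𝒰 := X.openCoverOfIsOpenCover U (eq_top_iff.mpr fun x _ => TopologicalSpace.Opens.mem_iSup.mpr (hU x))
  let g := Scheme.Cover.glueMorphisms 𝒰 (fun i => toA1 (a i)) fun i j => by
    show pullback.fst (U i).ι (U j).ι ≫ toA1 (a i) = pullback.snd (U i).ι (U j).ι ≫ toA1 (a j)
    rw [← cancel_epi (isPullback_opens_inf (U i) (U j)).isoPullback.hom,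
      IsPullback.isoPullback_hom_fst_assoc, IsPullback.isoPullback_hom_snd_assoc, comp_toA1, comp_toA1, h]
  refine ⟨ofA1 g, fun i => ?_⟩
  rw [← ofA1_comp, show (U i).ι ≫ g = toA1 (a i) from Scheme.Cover.ι_glueMorphisms 𝒰 _ _ i, ofA1_toA1]

theorem eq_of_opens {ι : Type u} (U : ι → X.Opens) (hU : ∀ x, ∃ i, x ∈ U i) {a b : Γ(X, ⊤)}
    (h : ∀ i, (U i).ι.appTop.hom a = (U i).ι.appTop.hom b) : a = b := by
  rw [← ofA1_toA1 a, ← ofA1_toA1 b]
  exact congrArg ofA1 (Scheme.hom_ext_of_forall _ _ fun x => by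
    obtain ⟨i, hi⟩ := hU x
    exact ⟨U i, hi, by rw [comp_toA1, comp_toA1, h i]⟩)

theorem appTop_injective {Y : Scheme.{u}} (f : X ⟶ Y) [Epi f] : Function.Injective f.appTop.hom := fun a b h => by
  rw [← ofA1_toA1 a, ← ofA1_toA1 b]
  exact congrArg ofA1 ((cancel_epi f).mp (by rw [comp_toA1, comp_toA1, h]))

variable (p) (S : Scheme.{u})

/-- The presheaf, one universe up. -/
noncomputable abbrev colimP : (Over S)ᵒᵖ ⥤ Type (u + 1) := frobColimPresheaf p S ⋙ uliftFunctor.{u + 1, u}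

variable {p S}

/-- The class of a section as a section of the presheaf. -/
def cls {Y : Over S} (n : ℕ) (a : Γ(Y.left, ⊤)) : (colimP p S).obj (op Y) := ULift.up (FrobColimSections.mk p n a)

theorem map_cls {Y Z : Over S} (g : Z ⟶ Y) (n : ℕ) (a : Γ(Y.left, ⊤)) :
    (colimP p S).map g.op (cls n a) = cls n (g.left.appTop.hom a) := rfl

theorem exists_cls {Y : Over S} (x : (colimP p S).obj (op Y)) : ∃ n a, x = cls n a := by
  obtain ⟨n, a, h⟩ := exists_mk x.down
  exact ⟨n, a, congrArg ULift.up h⟩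

theorem cls_eq_cls {Y : Over S} {n m : ℕ} {a b : Γ(Y.left, ⊤)} :
    cls (p := p) n a = cls m b ↔ ∃ k, a ^ p ^ (m + k) = b ^ p ^ (n + k) :=
  ⟨fun h => mk_eq_mk.mp (congrArg ULift.down h), fun h => congrArg ULift.up (mk_eq_mk.mpr h)⟩

theorem cls_eq_cls_self {Y : Over S} {n : ℕ} {a b : Γ(Y.left, ⊤)} :
    cls (p := p) n a = cls n b ↔ ∃ k, a ^ p ^ k = b ^ p ^ k :=
  ⟨fun h => mk_eq_mk_self.mp (congrArg ULift.down h), fun h => congrArg ULift.up (mk_eq_mk_self.mpr h)⟩

theorem cls_pow {Y : Over S} (n j : ℕ) (a : Γ(Y.left, ⊤)) : cls (p := p) n a = cls (n + j) (a ^ p ^ j) :=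
  congrArg ULift.up (mk_pow n j a)

theorem exists_uniform {ι : Type u} [Finite ι] {P : ι → ℕ → Prop} (hP : ∀ i, ∀ k l, k ≤ l → P i k → P i l)
    (h : ∀ i, ∃ k, P i k) : ∃ K, ∀ i, P i K := by
  choose k hk using h
  obtain ⟨K, hK⟩ := Finite.bddAbove_range k
  exact ⟨K, fun i => hP i _ _ (hK ⟨i, rfl⟩) (hk i)⟩

theorem colimP_sep (Y : Over S) (ι : Type u) [Finite ι] (U : ι → Y.left.Opens) (hU : ∀ x, ∃ i, x ∈ U i)
    (s t : (colimP p S).obj (op Y))
    (h : ∀ i, (colimP p S).map (ovι (U i)).op s = (colimP p S).map (ovι (U i)).op t) : s = t := by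
  obtain ⟨n, a, rfl⟩ := exists_cls s
  obtain ⟨m, b, rfl⟩ := exists_cls t
  obtain ⟨K, hK⟩ := exists_uniform (ι := ι)
    (P := fun i k => (U i).ι.appTop.hom a ^ p ^ (m + k) = (U i).ι.appTop.hom b ^ p ^ (n + k))
    (fun i k l hkl hk => by
      obtain ⟨d, rfl⟩ := Nat.exists_eq_add_of_le hkl
      simp only [← add_assoc, pow_add, pow_mul] at hk ⊢
      rw [hk])
    (fun i => cls_eq_cls.mp (h i))
  refine cls_eq_cls.mpr ⟨K, eq_of_opens U hU fun i => ?_⟩
  rw [map_pow, map_pow]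
  exact hK i

theorem colimP_glue (Y : Over S) (ι : Type u) [Finite ι] (U : ι → Y.left.Opens) (hU : ∀ x, ∃ i, x ∈ U i)
    (s : ∀ i, (colimP p S).obj (op (ov (U i))))
    (h : ∀ i j, (colimP p S).map (ovLE (inf_le_left : U i ⊓ U j ≤ U i)).op (s i) =
      (colimP p S).map (ovLE (inf_le_right : U i ⊓ U j ≤ U j)).op (s j)) :
    ∃ c, ∀ i, (colimP p S).map (ovι (U i)).op c = s i := by
  choose n a hna using fun i => exists_cls (s i)
  obtain ⟨N, hN⟩ := Finite.bddAbove_range n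
  obtain ⟨b, hb⟩ : ∃ b : ∀ i, Γ((U i : Scheme.{u}), ⊤), ∀ i, s i = cls N (b i) :=
    ⟨fun i => a i ^ p ^ (N - n i), fun i => by
      rw [hna i, cls_pow (n i) (N - n i), Nat.add_sub_cancel' (hN ⟨i, rfl⟩)]⟩
  have hh : ∀ i j, ∃ k, (Y.left.homOfLE (inf_le_left : U i ⊓ U j ≤ U i)).appTop.hom (b i) ^ p ^ k =
      (Y.left.homOfLE (inf_le_right : U i ⊓ U j ≤ U j)).appTop.hom (b j) ^ p ^ k := fun i j => by
    have h₀ := h i j
    rw [hb i, hb j] at h₀
    exact (cls_eq_cls_self (n := N)).mp h₀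
  obtain ⟨K, hK⟩ := exists_uniform (ι := ι × ι)
    (P := fun q k => (Y.left.homOfLE (inf_le_left : U q.1 ⊓ U q.2 ≤ U q.1)).appTop.hom (b q.1) ^ p ^ k =
      (Y.left.homOfLE (inf_le_right : U q.1 ⊓ U q.2 ≤ U q.2)).appTop.hom (b q.2) ^ p ^ k)
    (fun q k l hkl hk => pow_mono hk hkl) (fun q => hh q.1 q.2)
  obtain ⟨c, hc⟩ := exists_glue U hU (fun i => b i ^ p ^ K) fun i j => by
    rw [map_pow, map_pow]
    exact hK (i, j)
  refine ⟨cls (N + K) c, fun i => ?_⟩
  rw [hb i, cls_pow N K, map_cls]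
  exact congrArg (cls (N + K)) (hc i)

/-- The Zariski topology on schemes over the base. -/
noncomputable abbrev JZ (S : Scheme.{u}) : GrothendieckTopology (Over S) :=
  QuotSh.J Scheme.zariskiPrecoverage S

theorem bijective_toSheafify (Y : Over S) [CompactSpace Y.left] [QuasiSeparatedSpace Y.left] :
    Function.Bijective (((JZ S).toSheafify (colimP p S)).app (op Y)) :=
  haveI : Presheaf.IsLocallyInjective (Scheme.zariskiTopology.over S) ((JZ S).toSheafify (colimP p S)) :=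
    inferInstanceAs (Presheaf.IsLocallyInjective (JZ S) ((JZ S).toSheafify (colimP p S)))
  haveI : Presheaf.IsLocallySurjective (Scheme.zariskiTopology.over S) ((JZ S).toSheafify (colimP p S)) :=
    inferInstanceAs (Presheaf.IsLocallySurjective (JZ S) ((JZ S).toSheafify (colimP p S)))
  bijective_of_locally _ colimP_sep colimP_glue
    ((isSheaf_iff_isSheaf_of_type _ _).mp ((JZ S).sheafify_isSheaf (colimP p S))) Y

theorem injective_toSheafify (Y : Over S) [CompactSpace Y.left] :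
    Function.Injective (((JZ S).toSheafify (colimP p S)).app (op Y)) :=
  haveI : Presheaf.IsLocallyInjective (Scheme.zariskiTopology.over S) ((JZ S).toSheafify (colimP p S)) :=
    inferInstanceAs (Presheaf.IsLocallyInjective (JZ S) ((JZ S).toSheafify (colimP p S)))
  injective_of_locally _ colimP_sep Y

theorem sheafify_singleton {Y Z : Over S} (f : Y ⟶ Z) (hZ : IsAffine Z.left) [Surjective f.left] [Flat f.left]
    [IsProper f.left] [LocallyOfFinitePresentation f.left] :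
    Presieve.IsSheafFor ((JZ S).sheafify (colimP p S)) (Presieve.singleton f) := by
  haveI := hZ
  haveI : CompactSpace Y.left := QuasiCompact.compactSpace_of_compactSpace f.left
  haveI : QuasiSeparatedSpace Y.left := quasiSeparatedSpace_of_quasiSeparated f.left
  let W : Over S := Over.mk (pullback.fst f.left f.left ≫ Y.hom)
  let p₁ : W ⟶ Y := Over.homMk (pullback.fst f.left f.left) rfl
  let p₂ : W ⟶ Y := Over.homMk (pullback.snd f.left f.left) (by
    show pullback.snd f.left f.left ≫ Y.hom = pullback.fst f.left f.left ≫ Y.hom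
    rw [← Over.w f, ← Category.assoc, ← pullback.condition, Category.assoc])
  haveI : CompactSpace W.left := QuasiCompact.compactSpace_of_compactSpace (pullback.fst f.left f.left)
  rw [Presieve.isSheafFor_singleton]
  intro x hx
  obtain ⟨x₀, rfl⟩ := (bijective_toSheafify Y).2 x
  obtain ⟨N, a, rfl⟩ := exists_cls x₀
  have h := hx p₁ p₂ (Over.OverMorphism.ext pullback.condition)
  rw [← app_map, ← app_map, map_cls, map_cls] at h
  obtain ⟨k, hk⟩ := cls_eq_cls_self.mp (injective_toSheafify W h)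
  have hgk : ∀ {V : Scheme.{u}} (g₁ g₂ : V ⟶ Y.left), g₁ ≫ f.left = g₂ ≫ f.left →
      g₁ ≫ toA1 (a ^ p ^ k) = g₂ ≫ toA1 (a ^ p ^ k) := by
    intro V g₁ g₂ hg
    have h' : pullback.fst f.left f.left ≫ toA1 (a ^ p ^ k) = pullback.snd f.left f.left ≫ toA1 (a ^ p ^ k) := by
      rw [comp_toA1, comp_toA1, map_pow, map_pow]
      exact congrArg toA1 hk
    rw [← pullback.lift_fst_assoc g₁ g₂ hg, h', pullback.lift_snd_assoc]
  let c := EffectiveEpi.desc f.left (toA1 (a ^ p ^ k)) fun g₁ g₂ hg => hgk g₁ g₂ hg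
  have hc : f.left.appTop.hom (ofA1 c) = a ^ p ^ k := by
    rw [← ofA1_comp, EffectiveEpi.fac, ofA1_toA1]
  refine ⟨((JZ S).toSheafify (colimP p S)).app (op Z) (cls (N + k) (ofA1 c)), ?_, fun y hy => ?_⟩
  · show _ = _
    rw [← app_map, map_cls, hc, ← cls_pow]
  · obtain ⟨y₀, rfl⟩ := (bijective_toSheafify Z).2 y
    obtain ⟨M, d, rfl⟩ := exists_cls y₀
    change _ = _ at hy
    rw [← app_map, map_cls, cls_pow N k, ← hc] at hy
    obtain ⟨l, hl⟩ := cls_eq_cls.mp (injective_toSheafify Y hy)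
    refine congrArg _ (cls_eq_cls.mpr ⟨l, appTop_injective f.left ?_⟩)
    rw [map_pow, map_pow]
    exact hl

theorem sheafify_square (hp : p.Prime) (hS : (p : Γ(S, ⊤)) = 0) {E Z X' X : Over S} (e : E ⟶ X')
    (π : E ⟶ Z) (b : X' ⟶ X) (i : Z ⟶ X) (hX : IsAffine X.left)
    (h : IsAlmostBlowUpSquare e.left π.left b.left i.left)
    (hgen : ∃ f₁ f₂ : Γ(X.left, ⊤), i.left.ker = Scheme.IdealSheafData.ofIdealTop (Ideal.span {f₁, f₂}))
    (t : ((JZ S).sheafify (colimP p S)).obj (op Z)) (s' : ((JZ S).sheafify (colimP p S)).obj (op X'))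
    (hts : ((JZ S).sheafify (colimP p S)).map π.op t = ((JZ S).sheafify (colimP p S)).map e.op s') :
    ∃! s, ((JZ S).sheafify (colimP p S)).map i.op s = t ∧ ((JZ S).sheafify (colimP p S)).map b.op s = s' := by
  haveI := hX
  haveI := h.isClosedImmersion
  haveI := h.isProper
  haveI := isClosedImmersion_exceptional h
  haveI : IsAffine Z.left := isAffine_of_isAffineHom i.left
  haveI : CompactSpace X'.left := QuasiCompact.compactSpace_of_compactSpace b.left
  haveI : QuasiSeparatedSpace X'.left := quasiSeparatedSpace_of_quasiSeparated b.left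
  haveI : CompactSpace E.left := QuasiCompact.compactSpace_of_compactSpace e.left
  obtain ⟨n, hinj, hsurj⟩ := exists_pair hp (char_eq_zero hS X) h hgen
  obtain ⟨t₀, rfl⟩ := (bijective_toSheafify Z).2 t
  obtain ⟨s₀, rfl⟩ := (bijective_toSheafify X').2 s'
  obtain ⟨N, tn, rfl⟩ := exists_cls t₀
  obtain ⟨M, sm, rfl⟩ := exists_cls s₀
  rw [← app_map, ← app_map, map_cls, map_cls] at hts
  obtain ⟨k, hk⟩ := cls_eq_cls.mp (injective_toSheafify E hts)
  obtain ⟨x, hx₁, hx₂⟩ := hsurj (tn ^ p ^ (M + k)) (sm ^ p ^ (N + k)) (by rw [map_pow, map_pow]; exact hk)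
  refine ⟨((JZ S).toSheafify (colimP p S)).app (op X) (cls (N + M + k + n) x), ⟨?_, ?_⟩, fun y hy => ?_⟩
  · rw [← app_map, map_cls, hx₁, ← pow_mul, ← pow_add, cls_pow N (M + k + n)]
    simp only [add_assoc]
  · rw [← app_map, map_cls, hx₂, ← pow_mul, ← pow_add, cls_pow M (N + k + n)]
    simp only [add_assoc, add_left_comm N M]
  · obtain ⟨y₀, rfl⟩ := (bijective_toSheafify X).2 y
    obtain ⟨L, d, rfl⟩ := exists_cls y₀
    obtain ⟨hy₁, hy₂⟩ := hy
    rw [← app_map, map_cls, cls_pow N (M + k + n), pow_add p (M + k) n, pow_mul, ← hx₁] at hy₁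
    rw [← app_map, map_cls, cls_pow M (N + k + n), pow_add p (N + k) n, pow_mul, ← hx₂] at hy₂
    obtain ⟨l₁, hl₁⟩ := cls_eq_cls.mp (injective_toSheafify Z hy₁)
    obtain ⟨l₂, hl₂⟩ := cls_eq_cls.mp (injective_toSheafify X' hy₂)
    have e₂ : M + (N + k + n) = N + (M + k + n) := by omega
    rw [e₂] at hl₂
    rw [show N + M + k + n = N + (M + k + n) by omega]
    refine congrArg _ (cls_eq_cls.mpr ⟨max l₁ l₂ + n, ?_⟩)
    simp only [← add_assoc, pow_add, pow_mul] at hl₁ hl₂ ⊢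
    refine hinj _ _ ?_ ?_
    · simp only [map_pow]
      exact pow_mono hl₁ (le_max_left _ _)
    · simp only [map_pow]
      exact pow_mono hl₂ (le_max_right _ _)

theorem isSheaf_Jh_sheafify (hp : p.Prime) (hS : (p : Γ(S, ⊤)) = 0) :
    Presheaf.IsSheaf (HTop.Jh S) ((JZ S).sheafify (colimP p S)) :=
  (isSheaf_iff_isSheaf_of_type _ _).mpr <| HSquare.isSheaf_Jh
    ((isSheaf_iff_isSheaf_of_type _ _).mp ((JZ S).sheafify_isSheaf (colimP p S)))
    (fun _ _ f hY h₁ h₂ h₃ h₄ => by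
      haveI := h₁; haveI := h₂; haveI := h₃; haveI := h₄
      exact sheafify_singleton f hY)
    (fun _ _ _ _ e π b i hX h hgen t s' hts => sheafify_square hp hS e π b i hX h hgen t s' hts)

end Groth.Agent.FrobH
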