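import Groth.Agent.FrobH.Alg
import Groth.Agent.HTopPh.Square
import Groth.Agent.HTopCov.AlmostBlowUp
import Groth.Agent.S12442

/-!
# Two almost blow up squares, one inside the other, agree up to Frobenius
-/

set_option autoImplicit false
set_option backward.isDefEq.respectTransparency false
set_option backward.isDefEq.respectTransparency.types false

universe u

namespace Groth.Agent.FrobH

open CategoryTheory CategoryTheory.Limits AlgebraicGeometry HTop HTopCov Opposite TopologicalSpace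

/-- Restriction of sections. -/
noncomputable abbrev res {T : Scheme.{u}} {U V : T.Opens} (h : V ≤ U) : Γ(T, U) →+* Γ(T, V) :=
  (T.presheaf.map (homOfLE h).op).hom

theorem res_res {T : Scheme.{u}} {U V W : T.Opens} (h₁ : V ≤ U) (h₂ : W ≤ V) (a : Γ(T, U)) :
    res h₂ (res h₁ a) = res (h₂.trans h₁) a := by
  show ((T.presheaf.map (homOfLE h₁).op ≫ T.presheaf.map (homOfLE h₂).op)).hom a = _
  rw [← Functor.map_comp]
  rfl

theorem eq_of_affine_le {T : Scheme.{u}} {U : T.Opens} (a b : Γ(T, U))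
    (h : ∀ (V : T.affineOpens) (hle : V.1 ≤ U), res hle a = res hle b) : a = b := by
  refine TopCat.Sheaf.eq_of_locally_eq' T.sheaf (fun V : {V : T.affineOpens // V.1 ≤ U} => V.1.1) U
    (fun V => homOfLE V.2) (fun x hx => ?_) a b fun V => h V.1 V.2
  obtain ⟨V, hV, hxV, hle⟩ := exists_isAffineOpen_mem_and_subset (x := x) (U := U) hx
  exact Opens.mem_iSup.mpr ⟨⟨⟨V, hV⟩, hle⟩, hxV⟩

variable {E Z X' X : Scheme.{u}} {e : E ⟶ X'} {π : E ⟶ Z} {b : X' ⟶ X} {i : Z ⟶ X}

theorem ker_exceptional (h : IsAlmostBlowUpSquare e π b i) : e.ker = i.ker.comap b := by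
  haveI := h.isClosedImmersion
  rw [← Scheme.IdealSheafData.ker_fst_of_isClosedImmersion i b, ← h.isPullback.isoPullback_hom_fst,
    Scheme.Hom.ker_comp_of_isIso]

theorem isClosedImmersion_exceptional (h : IsAlmostBlowUpSquare e π b i) : IsClosedImmersion e :=
  MorphismProperty.of_isPullback (P := @IsClosedImmersion) h.isPullback.flip h.isClosedImmersion

theorem res_mem (h : IsAlmostBlowUpSquare e π b i) {s : Γ(X', ⊤)} (hs : e.appTop.hom s = 0) (W : X'.affineOpens) :
    res (le_top : W.1 ≤ ⊤) s ∈ (i.ker.comap b).ideal W := by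
  haveI := isClosedImmersion_exceptional h
  rw [← ker_exceptional h, Scheme.Hom.ker_apply, RingHom.mem_ker]
  have := congr($(e.naturality (homOfLE (le_top : W.1 ≤ ⊤)).op).hom s)
  simp only [CommRingCat.hom_comp, RingHom.comp_apply] at this
  refine this.trans ?_
  rw [show (e.app ⊤).hom s = 0 from hs]
  exact map_zero _

theorem eq_zero_of_mem (h : IsAlmostBlowUpSquare e π b i) {ι : Type*} (W : ι → X'.affineOpens)
    (hW : ∀ x, ∃ a, x ∈ (W a).1) {s : Γ(X', ⊤)}
    (hs : ∀ a, res (le_top : (W a).1 ≤ ⊤) s ∈ (i.ker.comap b).ideal (W a)) : e.appTop.hom s = 0 := by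
  haveI := isClosedImmersion_exceptional h
  refine TopCat.Sheaf.eq_of_locally_eq' E.sheaf (fun a => e ⁻¹ᵁ (W a).1) ⊤ (fun a => homOfLE le_top)
    (fun x _ => Opens.mem_iSup.mpr (hW (e x))) _ _ fun a => ?_
  rw [map_zero]
  have h1 := hs a
  rw [← ker_exceptional h, Scheme.Hom.ker_apply, RingHom.mem_ker] at h1
  have := congr($(e.naturality (homOfLE (le_top : (W a).1 ≤ ⊤)).op).hom s)
  simp only [CommRingCat.hom_comp, RingHom.comp_apply] at this
  exact this.symm.trans h1

variable {E'' X'' : Scheme.{u}} {e'' : E'' ⟶ X''} {π'' : E'' ⟶ Z} {b'' : X'' ⟶ X}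

theorem ker_le_supportedOn (h : IsAlmostBlowUpSquare e π b i) (h'' : IsAlmostBlowUpSquare e'' π'' b'' i)
    (j : X'' ⟶ X') [IsClosedImmersion j] (hj : j ≫ b = b'') : j.ker ≤ supportedOn (i.ker.comap b) := by
  haveI : LocallyOfFinitePresentation (j ≫ b) := hj ▸ h''.finitePresentation
  haveI := h.finitePresentation
  haveI : LocallyOfFinitePresentation j := Groth.Agent.S12442.result j b
  let gE := h.isPullback.lift (e'' ≫ j) π'' (by rw [Category.assoc, hj, h''.isPullback.w])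
  have hgπ : gE ≫ π = π'' := h.isPullback.lift_snd _ _ _
  have hge : gE ≫ e = e'' ≫ j := h.isPullback.lift_fst _ _ _
  have hbig : IsPullback (gE ≫ π) e'' i (j ≫ b) := by rw [hgπ, hj]; exact h''.isPullback.flip
  have hEW : IsPullback gE e'' e j := IsPullback.of_right hbig hge h.isPullback.flip
  refine (HTopCov.ker_le_iff_isAlmostBlowUpSquare h j hEW).mpr ?_
  rw [hgπ, hj]
  exact h''

theorem exists_data (h : IsAlmostBlowUpSquare e π b i) (h'' : IsAlmostBlowUpSquare e'' π'' b'' i) [IsAffine X]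
    (j : X'' ⟶ X') [IsClosedImmersion j] (hj : j ≫ b = b'') :
    ∃ (t : Finset X') (W : X' → X'.affineOpens) (K : ℕ), (∀ x, ∃ a : t, x ∈ (W a).1) ∧
      ∀ (a : t) (V : X'.affineOpens) (_ : V.1 ≤ (W a).1) (x : Γ(X', V.1)),
        x ∈ (i.ker.comap b).ideal V → x ∈ j.ker.ideal V → ∀ m, K ≤ m → x ^ (m + 1) = 0 := by
  haveI := h.isProper
  haveI : CompactSpace X' := QuasiCompact.compactSpace_of_compactSpace b
  haveI := h.finitePresentation
  haveI : LocallyOfFinitePresentation (j ≫ b) := hj ▸ h''.finitePresentation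
  haveI : LocallyOfFinitePresentation j := Groth.Agent.S12442.result j b
  have hsup := ker_le_supportedOn h h'' j hj
  choose W hW d hd using h.locPrincipal
  obtain ⟨t, ht⟩ := isCompact_univ.elim_finite_subcover (fun x => ((W x).1 : Set X')) (fun x => (W x).1.2)
    fun x _ => Set.mem_iUnion.mpr ⟨x, hW x⟩
  have hk : ∀ x, ∃ k, ∀ q ∈ j.ker.ideal (W x), d x ^ k * q = 0 := fun x => by
    obtain ⟨T, hT⟩ := HTopPh.fg_ker_ideal j (W x)
    have hT' : ∀ q ∈ T, ∃ n, d x ^ n * q = 0 := fun q hq =>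
      (mem_supportedOn_iff _ h.locPrincipal (W x) (hd x) q).mp
        (hsup (W x) (hT ▸ Submodule.subset_span (Finset.mem_coe.mpr hq)))
    choose n hn using hT'
    refine ⟨T.attach.sup fun q => n q.1 q.2, fun q hq => ?_⟩
    rw [← hT] at hq
    refine Submodule.span_induction (fun q hq => ?_) (mul_zero _) (fun a b _ _ ha hb => ?_) (fun c a _ ha => ?_) hq
    · rw [← Nat.sub_add_cancel (Finset.le_sup (f := fun q : T => n q.1 q.2) (Finset.mem_attach T ⟨q, hq⟩)),
        pow_add, mul_assoc, hn q hq, mul_zero]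
    · rw [mul_add, ha, hb, add_zero]
    · rw [smul_eq_mul, mul_left_comm, ha, mul_zero]
  choose k hk using hk
  refine ⟨t, W, t.sup k, fun x => ?_, fun a V hV x hxJ hxQ m hm => ?_⟩
  · obtain ⟨a, ha, hxa⟩ := Set.mem_iUnion₂.mp (ht (Set.mem_univ x))
    exact ⟨⟨a, ha⟩, hxa⟩
  rw [← (i.ker.comap b).map_ideal (U := V) (V := W a) hV, hd, Ideal.map_span, Set.image_singleton] at hxJ
  obtain ⟨c, rfl⟩ := Ideal.mem_span_singleton'.mp hxJ
  rw [← j.ker.map_ideal (U := V) (V := W a) hV] at hxQ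
  have h0 : ∀ y ∈ (j.ker.ideal (W a)).map (res hV), res hV (d a) ^ k a.1 * y = 0 := fun y hy => by
    refine Submodule.span_induction (fun y hy => ?_) (mul_zero _) (fun p q _ _ hp hq => ?_) (fun r p _ hp => ?_) hy
    · obtain ⟨z, hz, rfl⟩ := hy
      rw [← map_pow, ← map_mul, hk a.1 z hz, map_zero]
    · rw [mul_add, hp, hq, add_zero]
    · rw [smul_eq_mul, mul_left_comm, hp, mul_zero]
  have hle : k a.1 ≤ m := (Finset.le_sup a.2).trans hm
  have key : ∀ D : Γ(X', V.1), D ^ k a.1 * (c * D) = 0 → (c * D) ^ (m + 1) = 0 := fun D hD => by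
    calc (c * D) ^ (m + 1) = c ^ m * D ^ (m - k a.1) * (D ^ k a.1 * (c * D)) := by
          conv_lhs => rw [← Nat.sub_add_cancel hle, pow_succ, mul_pow, pow_add D]
          rw [Nat.sub_add_cancel hle]
          ring
      _ = 0 := by rw [hD, mul_zero]
  exact key _ (h0 _ hxQ)

variable {p : ℕ}

theorem compare (hp : p.Prime) (h : IsAlmostBlowUpSquare e π b i) (h'' : IsAlmostBlowUpSquare e'' π'' b'' i)
    [IsAffine X] (hchar : (p : Γ(X, ⊤)) = 0) (j : X'' ⟶ X') [IsClosedImmersion j] (hj : j ≫ b = b'') :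
    ∃ n : ℕ, (∀ s, e.appTop.hom s = 0 → j.appTop.hom s = 0 → s ^ p ^ n = 0) ∧
      ∀ s'', e''.appTop.hom s'' = 0 → ∃ s', e.appTop.hom s' = 0 ∧ j.appTop.hom s' = s'' ^ p ^ n := by
  obtain ⟨t, W, K, hcov, hK⟩ := exists_data h h'' j hj
  refine ⟨K + 1, ?_⟩
  have hq : K + 1 ≤ p ^ (K + 1) := (Nat.lt_pow_self hp.one_lt).le
  obtain ⟨m, hm⟩ : ∃ m, p ^ (K + 1) = m + 1 ∧ K ≤ m := ⟨p ^ (K + 1) - 1, by omega, by omega⟩
  have hcharV : ∀ V : X'.Opens, (p : Γ(X', V)) = 0 := fun V => by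
    have := congrArg (b.appLE ⊤ V le_top).hom hchar
    rwa [map_natCast, map_zero] at this
  refine ⟨fun s hs hjs => ?_, fun s'' hs'' => ?_⟩
  · refine TopCat.Sheaf.eq_of_locally_eq' X'.sheaf
      (fun V₃ : {V₃ : X'.affineOpens // ∃ a : t, V₃.1 ≤ (W a).1} => V₃.1.1) ⊤
      (fun V₃ => homOfLE le_top) (fun x _ => ?_) _ _ fun V₃ => ?_
    · obtain ⟨a, ha⟩ := hcov x
      exact Opens.mem_iSup.mpr ⟨⟨W a, a, le_rfl⟩, ha⟩
    · obtain ⟨a, ha⟩ := V₃.2
      rw [map_zero]
      show res le_top (s ^ p ^ (K + 1)) = 0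
      rw [map_pow, hm.1]
      refine hK a V₃.1 ha _ (res_mem h hs V₃.1) ?_ m hm.2
      rw [Scheme.Hom.ker_apply, RingHom.mem_ker]
      have := congr($(j.naturality (homOfLE (le_top : V₃.1.1 ≤ ⊤)).op).hom s)
      simp only [CommRingCat.hom_comp, RingHom.comp_apply] at this
      refine this.trans ?_
      rw [show (j.app ⊤).hom s = 0 from hjs]
      exact map_zero _
  -- local lifts
  have hJ'' : i.ker.comap b'' = (i.ker.comap b).comap j := by rw [← hj, Scheme.IdealSheafData.comap_comp]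
  have hlift : ∀ a : t, ∃ y : Γ(X', (W a).1), y ∈ (i.ker.comap b).ideal (W a) ∧
      (j.app (W a).1).hom y = res le_top s'' := fun a => by
    have h1 := res_mem h'' hs'' ⟨j ⁻¹ᵁ (W a).1, (W a).2.preimage j⟩
    rw [hJ'', ideal_comap_appLE j (i.ker.comap b) (W a) ⟨j ⁻¹ᵁ (W a).1, (W a).2.preimage j⟩ le_rfl,
      ← Scheme.Hom.app_eq_appLE, Ideal.mem_map_iff_of_surjective _ (j.app_surjective (W a).1 (W a).2)] at h1
    exact h1
  choose y hyJ hy using hlift
  have hjres : ∀ (a : t) (V : X'.Opens) (hV : V ≤ (W a).1), (j.app V).hom (res hV (y a)) = res le_top s'' := by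
    intro a V hV
    have := congr($(j.naturality (homOfLE hV).op).hom (y a))
    simp only [CommRingCat.hom_comp, RingHom.comp_apply] at this
    refine this.trans ?_
    rw [hy a]
    exact res_res _ _ _
  have hcompat : TopCat.Presheaf.IsCompatible X'.sheaf.1 (fun a : t => (W a).1)
      (fun a => (y a) ^ p ^ (K + 1)) := by
    intro a c
    show res _ ((y a) ^ p ^ (K + 1)) = res _ ((y c) ^ p ^ (K + 1))
    rw [map_pow, map_pow]
    refine eq_of_affine_le _ _ fun V hV => ?_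
    rw [map_pow, map_pow, res_res, res_res, ← sub_eq_zero, ← sub_pow_q hp (hcharV V.1) (K + 1), hm.1]
    have hVa : V.1 ≤ (W a).1 := hV.trans inf_le_left
    have hVc : V.1 ≤ (W c).1 := hV.trans inf_le_right
    refine hK a V hVa _ ?_ ?_ m hm.2
    · refine sub_mem ?_ ?_
      · rw [← (i.ker.comap b).map_ideal (U := V) (V := W a) hVa]; exact Ideal.mem_map_of_mem _ (hyJ a)
      · rw [← (i.ker.comap b).map_ideal (U := V) (V := W c) hVc]; exact Ideal.mem_map_of_mem _ (hyJ c)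
    · rw [Scheme.Hom.ker_apply, RingHom.mem_ker, map_sub, hjres a V.1 hVa, hjres c V.1 hVc, sub_self]
  obtain ⟨s', hs', -⟩ := X'.sheaf.existsUnique_gluing' (fun a : t => (W a).1) ⊤ (fun a => homOfLE le_top)
    (fun x _ => Opens.mem_iSup.mpr (hcov x)) _ hcompat
  have hres : ∀ a : t, res (le_top : (W a).1 ≤ ⊤) s' = (y a) ^ p ^ (K + 1) := hs'
  refine ⟨s', eq_zero_of_mem h (fun a : t => W a) hcov fun a => ?_, ?_⟩
  · rw [hres a]
    exact Ideal.pow_mem_of_mem _ (hyJ a) _ (pow_pos hp.pos _)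
  refine TopCat.Sheaf.eq_of_locally_eq' X''.sheaf (fun a : t => j ⁻¹ᵁ (W a).1) ⊤ (fun a => homOfLE le_top)
    (fun x _ => Opens.mem_iSup.mpr (hcov (j x))) _ _ fun a => ?_
  show res _ ((j.app ⊤).hom s') = res _ (s'' ^ p ^ (K + 1))
  have := congr($(j.naturality (homOfLE (le_top : (W a).1 ≤ ⊤)).op).hom s')
  simp only [CommRingCat.hom_comp, RingHom.comp_apply] at this
  refine this.symm.trans ?_
  show (j.app (W a).1).hom (res _ s') = _
  rw [hres a, map_pow, hy a, map_pow]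

end Groth.Agent.FrobH
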