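import Groth.Agent.FrobH.Model
import Groth.Agent.FrobH.Compare

/-!
# Functions on an almost blow up square with a two generated centre, up to Frobenius
-/

set_option autoImplicit false
set_option backward.isDefEq.respectTransparency false
set_option backward.isDefEq.respectTransparency.types false

universe u

namespace Groth.Agent.FrobH

open CategoryTheory CategoryTheory.Limits AlgebraicGeometry HTop

theorem exists_exponent {p : ℕ} (hp : p.Prime) {E Z X' X : Scheme.{u}} {e : E ⟶ X'} {π : E ⟶ Z} {b : X' ⟶ X}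
    {i : Z ⟶ X} [IsAffine X] (hchar : (p : Γ(X, ⊤)) = 0) (h : IsAlmostBlowUpSquare e π b i)
    (hgen : ∃ f₁ f₂ : Γ(X, ⊤), i.ker = Scheme.IdealSheafData.ofIdealTop (Ideal.span {f₁, f₂})) :
    ∃ n : ℕ, (∀ r, i.appTop.hom r = 0 → b.appTop.hom r = 0 → r ^ p ^ n = 0) ∧
      ∀ s, e.appTop.hom s = 0 → ∃ r, i.appTop.hom r = 0 ∧ b.appTop.hom r = s ^ p ^ n := by
  haveI := h.isClosedImmersion
  haveI := h.finitePresentation_base
  obtain ⟨f, g, hI⟩ := hgen
  obtain ⟨EP, P, eP, πP, bP, hP, hinjP, hsurjP⟩ := exists_model i f g hI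
  obtain ⟨E'', X'', e'', π'', b'', j₁, j₂, h'', hj₁, hj₂, hb₁, hb₂⟩ := ABlowEx.exists_dominating h hP
  haveI := hj₁
  haveI := hj₂
  obtain ⟨n₁, hinj₁, hsurj₁⟩ := compare hp h h'' hchar j₁ hb₁
  obtain ⟨n₂, hinj₂, hsurj₂⟩ := compare hp hP h'' hchar j₂ hb₂
  have comp : ∀ {X₁ X₂ : Scheme.{u}} (a : X₁ ⟶ X₂) (c : X₂ ⟶ X) (d : X₁ ⟶ X), a ≫ c = d →
      ∀ r, a.appTop.hom (c.appTop.hom r) = d.appTop.hom r := by
    rintro X₁ X₂ a c d rfl r; rw [Scheme.Hom.comp_appTop]; rfl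
  have ekill : ∀ {E₁ X₁ : Scheme.{u}} {e₁ : E₁ ⟶ X₁} {π₁ : E₁ ⟶ Z} {b₁ : X₁ ⟶ X},
      IsAlmostBlowUpSquare e₁ π₁ b₁ i → ∀ r, i.appTop.hom r = 0 → e₁.appTop.hom (b₁.appTop.hom r) = 0 := by
    intro E₁ X₁ e₁ π₁ b₁ h₁ r hr
    have := congr($(congrArg Scheme.Hom.appTop h₁.isPullback.w).hom r)
    simp only [Scheme.Hom.comp_appTop, CommRingCat.hom_comp, RingHom.comp_apply, hr, map_zero] at this
    exact this
  -- facts for the smaller square
  have inj'' : ∀ r, i.appTop.hom r = 0 → b''.appTop.hom r = 0 → r ^ (p ^ n₂ * 2) = 0 := by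
    intro r hr hb
    have h0 := hinj₂ _ (ekill hP r hr) ((comp j₂ bP b'' hb₂ r).trans hb)
    rw [← map_pow] at h0
    rw [pow_mul]
    exact hinjP _ h0
  have surj'' : ∀ s, e''.appTop.hom s = 0 → ∃ r, i.appTop.hom r = 0 ∧ b''.appTop.hom r = s ^ p ^ n₂ := by
    intro s hs
    obtain ⟨sP, hsP, hj⟩ := hsurj₂ s hs
    obtain ⟨r, hr, rfl⟩ := hsurjP sP hsP
    exact ⟨r, hr, (comp j₂ bP b'' hb₂ r).symm.trans hj⟩
  refine ⟨n₁ + n₂ + 1, fun r hr hb => ?_, fun s hs => ?_⟩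
  · have h2 : p ^ n₂ * 2 ≤ p ^ (n₁ + n₂ + 1) := by
      rw [pow_succ]
      exact Nat.mul_le_mul (Nat.pow_le_pow_right hp.one_lt.le (by omega)) hp.two_le
    exact pow_eq_zero_of_le h2 (inj'' r hr (by rw [← comp j₁ b b'' hb₁, hb, map_zero]))
  -- the pullback of `s` to the smaller square
  let gE := h.isPullback.lift (e'' ≫ j₁) π'' (by rw [Category.assoc, hb₁, h''.isPullback.w])
  have hs'' : e''.appTop.hom (j₁.appTop.hom s) = 0 := by
    have := congr($(congrArg Scheme.Hom.appTop (h.isPullback.lift_fst (e'' ≫ j₁) π''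
      (by rw [Category.assoc, hb₁, h''.isPullback.w]))).hom s)
    simp only [Scheme.Hom.comp_appTop, CommRingCat.hom_comp, RingHom.comp_apply, hs, map_zero] at this
    exact this.symm
  obtain ⟨r, hr, hbr⟩ := surj'' _ hs''
  have hcharX' : (p : Γ(X', ⊤)) = 0 := by
    have := congrArg b.appTop.hom hchar
    rwa [map_natCast, map_zero] at this
  have hd : e.appTop.hom (s ^ p ^ n₂ - b.appTop.hom r) = 0 := by
    rw [map_sub, map_pow, hs, ekill h r hr, zero_pow (pow_pos hp.pos _).ne', sub_zero]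
  have hjd : j₁.appTop.hom (s ^ p ^ n₂ - b.appTop.hom r) = 0 := by
    rw [map_sub, map_pow, comp j₁ b b'' hb₁, hbr, sub_self]
  have h0 := hinj₁ _ hd hjd
  rw [sub_pow_q hp hcharX', sub_eq_zero, ← pow_mul, ← pow_add] at h0
  refine ⟨r ^ (p ^ (n₁ + 1)), by rw [map_pow, hr, zero_pow (pow_pos hp.pos _).ne'], ?_⟩
  rw [map_pow, pow_succ p n₁, pow_mul, ← h0, ← pow_mul, ← pow_succ, add_comm n₂ n₁]

/-- The fibre product of functions: existence up to a power. -/
theorem exists_pair {p : ℕ} (hp : p.Prime) {E Z X' X : Scheme.{u}} {e : E ⟶ X'} {π : E ⟶ Z} {b : X' ⟶ X}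
    {i : Z ⟶ X} [IsAffine X] (hchar : (p : Γ(X, ⊤)) = 0) (h : IsAlmostBlowUpSquare e π b i)
    (hgen : ∃ f₁ f₂ : Γ(X, ⊤), i.ker = Scheme.IdealSheafData.ofIdealTop (Ideal.span {f₁, f₂})) :
    ∃ n : ℕ, (∀ x y, i.appTop.hom x = i.appTop.hom y → b.appTop.hom x = b.appTop.hom y → x ^ p ^ n = y ^ p ^ n) ∧
      ∀ t s, π.appTop.hom t = e.appTop.hom s →
        ∃ x, i.appTop.hom x = t ^ p ^ n ∧ b.appTop.hom x = s ^ p ^ n := by
  obtain ⟨n, hinj, hsurj⟩ := exists_exponent hp hchar h hgen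
  haveI := h.isClosedImmersion
  haveI : IsAffine Z := isAffine_of_isAffineHom i
  refine ⟨n, fun x y h₁ h₂ => ?_, fun t s hts => ?_⟩
  · rw [← sub_eq_zero, ← sub_pow_q hp hchar]
    exact hinj _ (by rw [map_sub, h₁, sub_self]) (by rw [map_sub, h₂, sub_self])
  · obtain ⟨r, rfl⟩ := i.app_surjective ⊤ (isAffineOpen_top X) t
    have hw : e.appTop.hom (b.appTop.hom r) = π.appTop.hom (i.appTop.hom r) := by
      have := congr($(congrArg Scheme.Hom.appTop h.isPullback.w).hom r)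
      simpa only [Scheme.Hom.comp_appTop, CommRingCat.hom_comp, RingHom.comp_apply] using this
    obtain ⟨x, hx₁, hx₂⟩ := hsurj (s - b.appTop.hom r) (by
      rw [map_sub, hw, sub_eq_zero]; exact hts.symm)
    refine ⟨r ^ p ^ n + x, ?_, ?_⟩
    · rw [map_add, map_pow, hx₁, add_zero]; rfl
    · have hc : (p : Γ(X', ⊤)) = 0 := by
        have := congrArg b.appTop.hom hchar
        rwa [map_natCast, map_zero] at this
      rw [map_add, map_pow, hx₂, sub_pow_q hp hc, add_sub_cancel]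

end Groth.Agent.FrobH
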