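import Mathlib.AlgebraicGeometry.AffineSpace
import Mathlib.AlgebraicGeometry.Sites.Fpqc
import Groth.Prelude
import Groth.Agent.FrobH.Square
import Groth.Agent.HSquare.Main

/-!
# Compatible systems of `p`-th roots of functions form an h sheaf
-/

set_option autoImplicit false
set_option backward.isDefEq.respectTransparency false
set_option backward.isDefEq.respectTransparency.types false

universe u

namespace Groth.Agent.FrobH

open CategoryTheory CategoryTheory.Limits AlgebraicGeometry HTop Opposite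

/-- The affine line over the integers. -/
noncomputable abbrev A1 : Scheme.{u} := Spec (CommRingCat.of (MvPolynomial PUnit.{u + 1} (ULift.{u} ℤ)))

/-- A global section as a morphism to the affine line. -/
noncomputable def toA1 {X : Scheme.{u}} (a : Γ(X, ⊤)) : X ⟶ A1.{u} :=
  (AffineSpace.toSpecMvPolyIntEquiv PUnit.{u + 1}).symm fun _ => a

/-- A morphism to the affine line as a global section. -/
noncomputable def ofA1 {X : Scheme.{u}} (f : X ⟶ A1.{u}) : Γ(X, ⊤) :=
  AffineSpace.toSpecMvPolyIntEquiv PUnit.{u + 1} f PUnit.unit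

theorem ofA1_toA1 {X : Scheme.{u}} (a : Γ(X, ⊤)) : ofA1 (toA1 a) = a := by
  simp only [ofA1, toA1, Equiv.apply_symm_apply]

theorem toA1_ofA1 {X : Scheme.{u}} (f : X ⟶ A1.{u}) : toA1 (ofA1 f) = f :=
  (AffineSpace.toSpecMvPolyIntEquiv PUnit.{u + 1}).symm_apply_eq.mpr rfl

theorem ofA1_comp {X Y : Scheme.{u}} (f : X ⟶ Y) (g : Y ⟶ A1.{u}) : ofA1 (f ≫ g) = f.appTop.hom (ofA1 g) := rfl

theorem comp_toA1 {X Y : Scheme.{u}} (f : X ⟶ Y) (a : Γ(Y, ⊤)) : f ≫ toA1 a = toA1 (f.appTop.hom a) := by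
  conv_rhs => rw [← ofA1_toA1 a, ← ofA1_comp, toA1_ofA1]

attribute [irreducible] toA1 ofA1

variable (S : Scheme.{u})

/-- Morphisms to the affine line, on schemes over `S`. -/
noncomputable def functions : (Over S)ᵒᵖ ⥤ Type u := (Over.forget S).op ⋙ yoneda.obj A1.{u}

theorem isSheaf_functions : Presieve.IsSheaf (Scheme.fpqcTopology.over S) (functions S) :=
  Functor.op_comp_isSheaf_of_isSheaf_type (F := Over.forget S) (J := Scheme.fpqcTopology.over S)
    (K := Scheme.fpqcTopology) (GrothendieckTopology.Subcanonical.isSheaf_of_isRepresentable _)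

variable {S}

theorem functions_map {X Y : Over S} (g : Y ⟶ X) (f : X.left ⟶ A1.{u}) :
    (functions S).map g.op f = g.left ≫ f := rfl

theorem mem_fpqc_of_singleton {X Y : Over S} (f : X ⟶ Y) [Flat f.left] [Surjective f.left]
    [LocallyOfFinitePresentation f.left] :
    Sieve.generate (Presieve.singleton f) ∈ Scheme.fpqcTopology.over S Y := by
  rw [GrothendieckTopology.mem_over_iff, ← Presieve.ofArrows_pUnit.{0}, ← Sieve.ofArrows,
    Sieve.overEquiv_ofArrows, Sieve.ofArrows, Presieve.ofArrows_pUnit]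
  exact Scheme.fppfTopology_le_fpqcTopology _
    (Precoverage.generate_mem_toGrothendieck (Scheme.Hom.singleton_mem_fppfPrecoverage f.left))

/-- Compatible `p`-th roots satisfy descent wherever functions do. -/
theorem frobLim_isSheafFor (p : ℕ) {X : Over S} (R : Presieve X)
    (h : Presieve.IsSheafFor (functions S) R) : Presieve.IsSheafFor (frobLimPresheaf p S) R := by
  intro x hx
  have hcomp : ∀ n, Presieve.FamilyOfElements.Compatible (P := functions S) (R := R)
      fun _ f hf => toA1 ((x f hf).1 n) := by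
    intro n Y₁ Y₂ W g₁ g₂ f₁ f₂ h₁ h₂ w
    refine ((functions_map g₁ (toA1 ((x f₁ h₁).1 n))).trans ?_).trans (functions_map g₂ (toA1 ((x f₂ h₂).1 n))).symm
    rw [comp_toA1, comp_toA1]
    exact congrArg (fun a : FrobLimSections p W.left => toA1 (a.1 n)) (hx g₁ g₂ h₁ h₂ w)
  choose t ht ht' using fun n => h _ (hcomp n)
  have ht₁ : ∀ n Y (f : Y ⟶ X) (hf : R f), f.left.appTop.hom (ofA1 (t n)) = (x f hf).1 n := fun n Y f hf =>
    ((ofA1_comp f.left (t n)).symm.trans (congrArg ofA1 ((functions_map f (t n)).symm.trans (ht n f hf)))).trans (ofA1_toA1 _)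
  have hp : ∀ n, ofA1 (t (n + 1)) ^ p = ofA1 (t n) := by
    intro n
    refine ((ofA1_toA1 _).symm.trans (congrArg ofA1 ?_))
    refine h.isSeparatedFor.ext fun Y f hf => ?_
    show f.left ≫ toA1 _ = f.left ≫ t n
    rw [comp_toA1, map_pow, ht₁ (n + 1) Y f hf, (x f hf).2 n]
    exact (ht n f hf).symm
  refine ⟨⟨fun n => ofA1 (t n), hp⟩, fun Y f hf => FrobLimSections.ext fun n => ht₁ n Y f hf, fun s hs => ?_⟩
  refine FrobLimSections.ext fun n => ?_
  have : toA1 (s.1 n) = t n := ht' n _ fun Y f hf => by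
    show f.left ≫ toA1 _ = toA1 _
    rw [comp_toA1]
    exact congrArg (fun a : FrobLimSections p Y.left => toA1 (a.1 n)) (hs f hf)
  show s.1 n = ofA1 (t n)
  rw [← this, ofA1_toA1]

theorem frobLim_isSheaf_zariski (p : ℕ) :
    Presieve.IsSheaf (Scheme.zariskiTopology.over S) (frobLimPresheaf p S) := fun X R hR =>
  frobLim_isSheafFor p _ (isSheaf_functions S _ (Scheme.zariskiTopology_le_fpqcTopology _ hR))

theorem frobLim_isSheafFor_singleton (p : ℕ) {X Y : Over S} (f : X ⟶ Y) [Flat f.left] [Surjective f.left]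
    [LocallyOfFinitePresentation f.left] :
    Presieve.IsSheafFor (frobLimPresheaf p S) (Presieve.singleton f) :=
  frobLim_isSheafFor p _
    ((Presieve.isSheafFor_iff_generate _).mpr (isSheaf_functions S _ (mem_fpqc_of_singleton f)))

theorem char_eq_zero {p : ℕ} (hS : (p : Γ(S, ⊤)) = 0) (X : Over S) : (p : Γ(X.left, ⊤)) = 0 := by
  have := congrArg X.hom.appTop.hom hS
  rwa [map_natCast, map_zero] at this

theorem root_pow {A : Type u} [CommRing A] {p : ℕ} {a : ℕ → A} (ha : ∀ n, a (n + 1) ^ p = a n) (m k : ℕ) :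
    a (m + k) ^ p ^ k = a m := by
  induction k with
  | zero => simp
  | succ k ih => rw [pow_succ', pow_mul, ← add_assoc, ha, ih]

theorem frobLim_square {p : ℕ} (hp : p.Prime) (hS : (p : Γ(S, ⊤)) = 0) {E Z X' X : Over S} (e : E ⟶ X')
    (π : E ⟶ Z) (b : X' ⟶ X) (i : Z ⟶ X) (hX : IsAffine X.left)
    (h : IsAlmostBlowUpSquare e.left π.left b.left i.left)
    (hgen : ∃ f₁ f₂ : Γ(X.left, ⊤), i.left.ker = Scheme.IdealSheafData.ofIdealTop (Ideal.span {f₁, f₂}))
    (t : (frobLimPresheaf p S).obj (op Z)) (s' : (frobLimPresheaf p S).obj (op X'))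
    (hts : (frobLimPresheaf p S).map π.op t = (frobLimPresheaf p S).map e.op s') :
    ∃! s : (frobLimPresheaf p S).obj (op X),
      (frobLimPresheaf p S).map i.op s = t ∧ (frobLimPresheaf p S).map b.op s = s' := by
  haveI := hX
  obtain ⟨N, hinj, hsurj⟩ := exists_pair hp (char_eq_zero hS X) h hgen
  choose y hy₁ hy₂ using fun m => hsurj (t.1 m) (s'.1 m)
    (congrArg (fun a : FrobLimSections p E.left => a.1 m) hts)
  have hy : ∀ m, (y (m + 1) ^ p) ^ p ^ N = y m ^ p ^ N := fun m =>
    hinj _ _ (by rw [map_pow, hy₁, hy₁, ← pow_mul, mul_comm, pow_mul, t.2])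
      (by rw [map_pow, hy₂, hy₂, ← pow_mul, mul_comm, pow_mul, s'.2])
  let c : (frobLimPresheaf p S).obj (op X) := ⟨fun m => y (m + (N + N)) ^ p ^ N, fun m => by
    show (y (m + 1 + (N + N)) ^ p ^ N) ^ p = y (m + (N + N)) ^ p ^ N
    rw [← hy (m + (N + N)), add_right_comm m 1, ← pow_mul, ← pow_mul, mul_comm]⟩
  refine ⟨c, ⟨FrobLimSections.ext fun m => ?_, FrobLimSections.ext fun m => ?_⟩, fun d hd => ?_⟩
  · show i.left.appTop.hom (y (m + (N + N)) ^ p ^ N) = t.1 m
    rw [map_pow, hy₁, ← pow_mul, ← pow_add, root_pow t.2]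
  · show b.left.appTop.hom (y (m + (N + N)) ^ p ^ N) = s'.1 m
    rw [map_pow, hy₂, ← pow_mul, ← pow_add, root_pow s'.2]
  · have ht : ∀ m, i.left.appTop.hom (d.1 m) = t.1 m := fun m =>
      congrArg (fun a : FrobLimSections p Z.left => a.1 m) hd.1
    have hs : ∀ m, b.left.appTop.hom (d.1 m) = s'.1 m := fun m =>
      congrArg (fun a : FrobLimSections p X'.left => a.1 m) hd.2
    refine FrobLimSections.ext fun m => ?_
    rw [← root_pow d.2 m N, ← root_pow c.2 m N]
    refine hinj _ _ ?_ ?_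
    · rw [ht]
      show _ = i.left.appTop.hom (y (m + N + (N + N)) ^ p ^ N)
      rw [map_pow, hy₁, ← pow_mul, ← pow_add, root_pow t.2]
    · rw [hs]
      show _ = b.left.appTop.hom (y (m + N + (N + N)) ^ p ^ N)
      rw [map_pow, hy₂, ← pow_mul, ← pow_add, root_pow s'.2]

theorem isSheaf_Jh_frobLim {p : ℕ} (hp : p.Prime) (hS : (p : Γ(S, ⊤)) = 0) :
    Presieve.IsSheaf (HTop.Jh S) (frobLimPresheaf p S) :=
  HSquare.isSheaf_Jh (frobLim_isSheaf_zariski p)
    (fun _ _ f _ h₁ h₂ _ h₄ => by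
      haveI := h₁; haveI := h₂; haveI := h₄
      exact frobLim_isSheafFor_singleton p f)
    (fun _ _ _ _ e π b i hX h hgen t s' hts => frobLim_square hp hS e π b i hX h hgen t s' hts)

end Groth.Agent.FrobH
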