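import Mathlib.AlgebraicGeometry.AffineScheme
import Mathlib.AlgebraicGeometry.IdealSheaf.Subscheme
import Mathlib.AlgebraicGeometry.Morphisms.ClosedImmersion

/-!
# Elementary facts on global sections
-/

set_option autoImplicit false
set_option backward.isDefEq.respectTransparency false
set_option backward.isDefEq.respectTransparency.types false

universe u

namespace Groth.Agent.FrobH

open CategoryTheory AlgebraicGeometry Opposite

theorem appTop_structure {X : Scheme.{u}} [IsAffine X] {A : Type u} [CommRing A] (ψ : Γ(X, ⊤) →+* A) (r : Γ(X, ⊤)) :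
    (Spec.map (CommRingCat.ofHom ψ) ≫ X.isoSpec.inv).appTop.hom r =
      (Scheme.ΓSpecIso (CommRingCat.of A)).inv.hom (ψ r) := by
  have h1 : X.isoSpec.inv.appTop = (Scheme.ΓSpecIso Γ(X, ⊤)).inv := by
    have h2 : X.isoSpec.hom.appTop ≫ X.isoSpec.inv.appTop = 𝟙 _ := by
      rw [← Scheme.Hom.comp_appTop, Iso.inv_hom_id, Scheme.Hom.id_appTop]
    have h3 : X.isoSpec.hom.appTop = (Scheme.ΓSpecIso Γ(X, ⊤)).hom := by
      rw [Scheme.isoSpec_hom, Scheme.toSpecΓ_appTop]
    rw [h3] at h2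
    rw [← Iso.inv_hom_id_assoc (Scheme.ΓSpecIso Γ(X, ⊤)) X.isoSpec.inv.appTop, h2, Category.comp_id]
  rw [Scheme.Hom.comp_appTop, h1]
  show ((Scheme.ΓSpecIso Γ(X, ⊤)).inv ≫ (Spec.map (CommRingCat.ofHom ψ)).appTop).hom r = _
  erw [← Scheme.ΓSpecIso_inv_naturality (CommRingCat.ofHom ψ)]
  rfl

/-- A global section vanishing on an open cover is zero. -/
theorem eq_zero_of_cover {P : Scheme.{u}} {ι : Type*} {V : ι → Scheme.{u}} (η : ∀ a, V a ⟶ P)
    [∀ a, IsOpenImmersion (η a)] (hcov : ∀ x : P, ∃ a, x ∈ (η a).opensRange) (s : Γ(P, ⊤))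
    (h : ∀ a, (η a).appTop.hom s = 0) : s = 0 := by
  refine TopCat.Sheaf.eq_of_locally_eq' P.sheaf (fun a => (η a).opensRange) ⊤ (fun a => homOfLE le_top)
    (fun x _ => TopologicalSpace.Opens.mem_iSup.mpr (hcov x)) s 0 fun a => ?_
  have e : η a = (η a).isoOpensRange.hom ≫ (η a).opensRange.ι := (Scheme.Hom.isoOpensRange_hom_ι _).symm
  have h0 := h a
  rw [e, Scheme.Hom.comp_appTop] at h0
  have hinj : Function.Injective (η a).isoOpensRange.hom.appTop.hom :=
    (ConcreteCategory.bijective_of_isIso (η a).isoOpensRange.hom.appTop).1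
  have h1 : (η a).opensRange.ι.appTop.hom s = 0 := hinj (h0.trans (map_zero _).symm)
  rw [map_zero]
  have h2 : ((η a).opensRange.ι.appTop ≫ (η a).opensRange.topIso.hom).hom s = 0 := by
    rw [CommRingCat.hom_comp, RingHom.comp_apply, h1, map_zero]
  refine Eq.trans ?_ h2
  have h3 : (η a).opensRange.ι.appTop ≫ (η a).opensRange.topIso.hom =
      P.presheaf.map (homOfLE (le_top : (η a).opensRange ≤ ⊤)).op := by
    rw [Scheme.Opens.ι_appTop, Scheme.Opens.topIso_hom, ← Functor.map_comp]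
    rfl
  rw [h3]
  rfl

end Groth.Agent.FrobH
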