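import Groth.Agent.FrobH.Chart
import Groth.Agent.FrobH.Sections
import Groth.Agent.ABlowEx.Main

/-!
# The universal almost blow up of two functions and its global sections
-/

set_option autoImplicit false
set_option backward.isDefEq.respectTransparency false
set_option backward.isDefEq.respectTransparency.types false

universe u

namespace Groth.Agent.FrobH

open CategoryTheory CategoryTheory.Limits AlgebraicGeometry HTop
open Groth.Agent.BlowUpLib Groth.Agent.HSquare

attribute [local instance] isDomain_int isNoetherianRing_int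

section

variable {X : Scheme.{u}} [IsAffine X] (φ : R₀.{u} →+* Γ(X, ⊤))

/-- The classifying map. -/
noncomputable def classify : X ⟶ Spec (CommRingCat.of R₀.{u}) := X.toSpecΓ ≫ Spec.map (CommRingCat.ofHom φ)

theorem isoSpec_inv_classify : X.isoSpec.inv ≫ classify φ = Spec.map (CommRingCat.ofHom φ) := by
  rw [classify, ← Scheme.isoSpec_hom, Iso.inv_hom_id_assoc]

theorem strHom_classify : strHom (classify φ) ⊤ = φ := by
  have h : (Scheme.ΓSpecIso (CommRingCat.of R₀.{u})).inv ≫ (classify φ).appTop = CommRingCat.ofHom φ := by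
    rw [classify, Scheme.Hom.comp_appTop, Scheme.toSpecΓ_appTop]
    erw [← Category.assoc, ← Scheme.ΓSpecIso_inv_naturality (CommRingCat.ofHom φ), Category.assoc,
      Iso.inv_hom_id, Category.comp_id]
  have e : (classify φ).appLE ⊤ ⊤ le_top = (classify φ).appTop := by
    rw [Scheme.Hom.appTop, Scheme.Hom.app_eq_appLE]
    rfl
  rw [strHom, e, h]
  rfl

/-- The base change of the universal blow up. -/
noncomputable abbrev modelP : Scheme.{u} := pullback (toBase I₀.{u}) (classify φ)

theorem η_cond (a : Fin 2) :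
    (Spec.map (CommRingCat.ofHom (ofChart φ a)) ≫ chart I₀ (gen₀.{u} a)) ≫ toBase I₀ =
      (Spec.map (CommRingCat.ofHom (algebraMap Γ(X, ⊤) (A φ a))) ≫ X.isoSpec.inv) ≫ classify φ := by
  rw [Category.assoc, chart_toBase, Category.assoc, isoSpec_inv_classify, ← Spec.map_comp, ← Spec.map_comp]
  exact congrArg Spec.map (isPushout_chart φ a).w

/-- The charts of the base change. -/
noncomputable def η (a : Fin 2) : Spec (CommRingCat.of (A φ a)) ⟶ modelP φ :=
  pullback.lift _ _ (η_cond φ a)

theorem η_snd (a : Fin 2) :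
    η φ a ≫ pullback.snd (toBase I₀.{u}) (classify φ) =
      Spec.map (CommRingCat.ofHom (algebraMap Γ(X, ⊤) (A φ a))) ≫ X.isoSpec.inv :=
  pullback.lift_snd _ _ _

theorem isPullback_η (a : Fin 2) :
    IsPullback (η φ a) (Spec.map (CommRingCat.ofHom (ofChart φ a))) (pullback.fst (toBase I₀.{u}) (classify φ))
      (chart I₀ (gen₀.{u} a)) := by
  have h := (isPullback_SpecMap_of_isPushout _ _ _ _ (isPushout_chart φ a)).flip
  have h' : IsPullback (η φ a ≫ pullback.snd (toBase I₀.{u}) (classify φ)) (Spec.map (CommRingCat.ofHom (ofChart φ a)))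
      (classify φ) (chart I₀ (gen₀.{u} a) ≫ toBase I₀) := by
    refine h.of_iso (Iso.refl _) X.isoSpec.symm (Iso.refl _) (Iso.refl _) ?_ ?_ ?_ ?_
    · simp [η_snd]
    · simp
    · simp [isoSpec_inv_classify]
    · simp [chart_toBase]
  exact IsPullback.of_right h' (pullback.lift_fst _ _ _) (IsPullback.of_hasPullback _ _).flip

instance (a : Fin 2) : IsOpenImmersion (η φ a) :=
  MorphismProperty.of_isPullback (P := @IsOpenImmersion) (isPullback_η φ a).flip inferInstance

theorem η_covers (x : modelP φ) : ∃ a : Fin 2, x ∈ (η φ a).opensRange := by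
  obtain ⟨a, z, hz⟩ := exists_mem_chart.{u} (pullback.fst (toBase I₀.{u}) (classify φ) x)
  obtain ⟨w, hw, -⟩ := Scheme.Pullback.exists_preimage_pullback
    (f := pullback.fst (toBase I₀.{u}) (classify φ)) (g := chart I₀ (gen₀.{u} a)) x z hz.symm
  refine ⟨a, (isPullback_η φ a).isoPullback.inv w, ?_⟩
  rw [← Scheme.Hom.comp_apply, (isPullback_η φ a).isoPullback_inv_fst]
  exact hw

theorem η_appTop (a : Fin 2) (r : Γ(X, ⊤)) :
    (η φ a).appTop.hom ((pullback.snd (toBase I₀.{u}) (classify φ)).appTop.hom r) =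
      (Scheme.ΓSpecIso (CommRingCat.of (A φ a))).inv.hom (algebraMap Γ(X, ⊤) (A φ a) r) := by
  rw [← appTop_structure, ← η_snd, Scheme.Hom.comp_appTop]
  rfl

theorem sq_eq_zero_of_pullback_eq_zero (r : Γ(X, ⊤))
    (h : (pullback.snd (toBase I₀.{u}) (classify φ)).appTop.hom r = 0) : r ^ 2 = 0 := by
  have key : ∀ a, algebraMap Γ(X, ⊤) (A φ a) r = 0 := fun a => by
    refine (ConcreteCategory.bijective_of_isIso (Scheme.ΓSpecIso (CommRingCat.of (A φ a))).inv).1 ?_
    refine ((η_appTop φ a r).symm.trans ?_).trans (map_zero _).symm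
    rw [h, map_zero]
  have h₂ : ∀ c, c = other (other (0 : Fin 2)) → algebraMap Γ(X, ⊤)
      (ChartRing (φ (MvPolynomial.X (other (0 : Fin 2)))) (φ (MvPolynomial.X c))) r = 0 := by
    rintro c rfl; exact key (other 0)
  exact sq_eq_zero (key 0) (h₂ 0 (other_other 0).symm)

theorem exists_pullback_eq (s : Γ(modelP φ, ⊤)) :
    ∃ r : Γ(X, ⊤), (pullback.snd (toBase I₀.{u}) (classify φ)).appTop.hom r = s := by
  let a : Fin 2 := 0
  let sec : ∀ b, A φ b := fun b => (Scheme.ΓSpecIso (CommRingCat.of (A φ b))).hom.hom ((η φ b).appTop.hom s)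
  obtain ⟨P, hP⟩ := Ideal.Quotient.mk_surjective (sec a)
  obtain ⟨Q, hQ⟩ := Ideal.Quotient.mk_surjective (sec (other a))
  have hover : Spec.map (CommRingCat.ofHom (algebraMap (A φ a) (L φ a))) ≫ η φ a =
      Spec.map (CommRingCat.ofHom (swapMap φ a)) ≫ η φ (other a) := by
    refine pullback.hom_ext ?_ ?_
    · rw [η, η, Category.assoc, Category.assoc, pullback.lift_fst, pullback.lift_fst, ← Category.assoc,
        ← Category.assoc, ← Spec.map_comp, ← Spec.map_comp]
      exact overlap_eq φ a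
    · rw [Category.assoc, Category.assoc, η_snd, η_snd, ← Category.assoc, ← Category.assoc, ← Spec.map_comp,
        ← Spec.map_comp]
      congr 2
      exact CommRingCat.hom_ext (RingHom.ext fun r =>
        (IsScalarTower.algebraMap_apply _ _ _ r).symm.trans (swapMap_algebraMap φ a r).symm)
  have hagree : algebraMap (A φ a) (L φ a) (sec a) = swapMap φ a (sec (other a)) := by
    have := congr($(congrArg Scheme.Hom.appTop hover).hom s)
    simp only [Scheme.Hom.comp_appTop, CommRingCat.hom_comp, RingHom.comp_apply] at this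
    refine (ConcreteCategory.bijective_of_isIso (Scheme.ΓSpecIso (CommRingCat.of (L φ a))).inv).1 ?_
    have e : ∀ (b : Fin 2) (m : A φ b →+* L φ a),
        (Scheme.ΓSpecIso (CommRingCat.of (L φ a))).inv.hom (m (sec b)) =
          (Spec.map (CommRingCat.ofHom m)).appTop.hom ((η φ b).appTop.hom s) := fun b m => by
      have h1 := congr($(Scheme.ΓSpecIso_inv_naturality (CommRingCat.ofHom m)).hom (sec b))
      simp only [CommRingCat.hom_comp, RingHom.comp_apply] at h1
      refine h1.trans (congrArg _ ?_)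
      exact congr($((Scheme.ΓSpecIso (CommRingCat.of (A φ b))).hom_inv_id).hom ((η φ b).appTop.hom s))
    exact (e a _).trans (this.trans (e (other a) _).symm)
  rw [← hP, ← hQ, swapMap_mk] at hagree
  obtain ⟨N, hN, hN1, hdvd⟩ := exists_dvd P Q _
    ((mul_comm _ _).trans (IsLocalization.Away.mul_invSelf _)) hagree
  obtain ⟨r, hr₀, hr₁⟩ := exists_const P Q N hN hN1 hdvd
  refine ⟨r, sub_eq_zero.mp (eq_zero_of_cover (η φ) (η_covers φ) _ fun b => ?_)⟩
  rw [map_sub, η_appTop, sub_eq_zero]
  have fin : algebraMap Γ(X, ⊤) (A φ b) r = sec b := by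
    rcases eq_or_eq_other a b with rfl | rfl
    · exact hr₀.trans hP
    · have aux : ∀ c, c = a → (algebraMap Γ(X, ⊤)
          (ChartRing (φ (MvPolynomial.X (other a))) (φ (MvPolynomial.X c))) r =
            Ideal.Quotient.mk _ Q) := by
        rintro c rfl; exact hr₁
      exact (aux _ (other_other a)).trans hQ
  rw [fin]
  exact congr($((Scheme.ΓSpecIso (CommRingCat.of (A φ b))).hom_inv_id).hom ((η φ b).appTop.hom s))

end

theorem exists_model {X Z : Scheme.{u}} [IsAffine X] (i : Z ⟶ X) [IsClosedImmersion i]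
    [LocallyOfFinitePresentation i] (f g : Γ(X, ⊤)) (hI : i.ker = Scheme.IdealSheafData.ofIdealTop (Ideal.span {f, g})) :
    ∃ (E P : Scheme.{u}) (e : E ⟶ P) (π : E ⟶ Z) (b : P ⟶ X), IsAlmostBlowUpSquare e π b i ∧
      (∀ r, b.appTop.hom r = 0 → r ^ 2 = 0) ∧
      ∀ s, e.appTop.hom s = 0 → ∃ r, i.appTop.hom r = 0 ∧ b.appTop.hom r = s := by
  let φ : R₀.{u} →+* Γ(X, ⊤) :=
    MvPolynomial.eval₂Hom ((Int.castRingHom Γ(X, ⊤)).comp (ULift.ringEquiv : ULift.{u} ℤ ≃+* ℤ).toRingHom) ![f, g]
  have hφ0 : φ (MvPolynomial.X 0) = f := MvPolynomial.eval₂Hom_X' _ _ 0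
  have hφ1 : φ (MvPolynomial.X 1) = g := MvPolynomial.eval₂Hom_X' _ _ 1
  let q := classify φ
  let i₀ := (centre I₀.{u}).subschemeι
  have hfg : I₀.{u}.map φ = Ideal.span {f, g} := by
    rw [show I₀.{u} = Ideal.span (Set.range MvPolynomial.X) from rfl, Ideal.map_span]
    congr 1
    ext x
    simp only [Set.mem_image, Set.mem_range, exists_exists_eq_and, Fin.exists_fin_two, hφ0, hφ1,
      Set.mem_insert_iff, Set.mem_singleton_iff]
    constructor
    · rintro ⟨_, rfl | rfl, rfl⟩
      exacts [Or.inl hφ0, Or.inr hφ1]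
    · rintro (rfl | rfl)
      exacts [⟨_, Or.inl rfl, hφ0⟩, ⟨_, Or.inr rfl, hφ1⟩]
  have hpk : (pullback.fst q i₀).ker = i.ker := by
    show (centre I₀.{u}).comap q = i.ker
    rw [hI]
    refine Scheme.IdealSheafData.ext_of_isAffine ((ideal_comap_centre I₀ q ⟨⊤, isAffineOpen_top _⟩).trans ?_)
    rw [Scheme.IdealSheafData.ofIdealTop_ideal]
    erw [X.presheaf.map_id, Ideal.map_id]
    rw [strHom_classify, hfg]
  let ψ : Z ⟶ pullback q i₀ := IsClosedImmersion.lift (pullback.fst q i₀) i hpk.le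
  haveI : IsIso ψ := IsClosedImmersion.isIso_lift _ _ hpk
  have hψ : ψ ≫ pullback.fst q i₀ = i := IsClosedImmersion.lift_fac _ _ _
  have hZ : IsPullback (ψ ≫ pullback.snd q i₀) i i₀ q :=
    ((IsPullback.of_hasPullback q i₀).of_iso (asIso ψ).symm (Iso.refl _) (Iso.refl _)
      (Iso.refl _) (by simp [← hψ]) (by simp) (by simp) (by simp)).flip
  haveI : IsNoetherianRing R₀.{u} := inferInstance
  have h₀ := ABlowEx.isAlmostBlowUpSquare_of_isBlowUp (centre I₀.{u})
    (fun U => (IsLocallyNoetherian.component_noetherian U).noetherian _) (toBase I₀) (isBlowUp_local I₀)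
  let gX := pullback.fst (toBase I₀.{u}) q
  let b := pullback.snd (toBase I₀.{u}) q
  have hX : IsPullback gX b (toBase I₀.{u}) q := IsPullback.of_hasPullback _ _
  let e₀ := pullback.fst (toBase I₀.{u}) i₀
  let e := pullback.snd e₀ gX
  have hw : (pullback.fst e₀ gX ≫ pullback.snd (toBase I₀) i₀) ≫ i₀ = (e ≫ b) ≫ q := by
    rw [Category.assoc, Category.assoc, ← hX.w, ← pullback.condition (f := toBase I₀) (g := i₀),
      ← Category.assoc, ← Category.assoc, pullback.condition (g := gX)]
  have hsq := HTopCov.isAlmostBlowUpSquare_baseChange h₀ q hX hZ (IsPullback.of_hasPullback e₀ gX)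
    (hZ.lift_snd _ _ hw)
  refine ⟨_, _, e, hZ.lift _ _ hw, b, hsq, sq_eq_zero_of_pullback_eq_zero φ, fun s hs => ?_⟩
  obtain ⟨r, rfl⟩ := exists_pullback_eq φ s
  refine ⟨r, ?_, rfl⟩
  -- evaluate at a point of the exceptional divisor over the centre
  haveI : IsAffine Z := isAffine_of_isAffineHom i
  let evA : A φ 0 →+* Γ(Z, ⊤) := Ideal.Quotient.lift _
    (Polynomial.eval₂RingHom i.appTop.hom 0) (fun x hx => by
      obtain ⟨T, rfl⟩ := Ideal.mem_span_singleton.mp hx
      rw [map_mul]
      have hg : i.appTop.hom g = 0 := by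
        have hm : g ∈ i.ker.ideal ⟨⊤, isAffineOpen_top _⟩ := by
          rw [hI, Scheme.IdealSheafData.ofIdealTop_ideal]
          erw [X.presheaf.map_id, Ideal.map_id]
          exact Ideal.subset_span (Or.inr rfl)
        rw [Scheme.Hom.ker_apply] at hm
        exact hm
      have h1 : φ (MvPolynomial.X (other 0)) = g := hφ1
      convert zero_mul _
      simp [rel, h1, hg])
  let ε := Spec.map (CommRingCat.ofHom evA)
  have hε : Z.isoSpec.hom ≫ (ε ≫ η φ 0) ≫ b = i := by
    rw [Category.assoc, η_snd, ← Category.assoc ε, ← Spec.map_comp, show (CommRingCat.ofHom (algebraMap Γ(X, ⊤)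
      (A φ 0)) ≫ CommRingCat.ofHom evA) = i.appTop from CommRingCat.hom_ext (RingHom.ext fun x =>
        Polynomial.eval₂_C _ _), Scheme.isoSpec_inv_naturality, Iso.hom_inv_id_assoc]
  let w := hsq.isPullback.lift (Z.isoSpec.hom ≫ ε ≫ η φ 0) (𝟙 Z) (by rw [Category.id_comp, ← hε]; simp)
  have hwe : w ≫ e = Z.isoSpec.hom ≫ ε ≫ η φ 0 := hsq.isPullback.lift_fst _ _ _
  have := congr($(congrArg Scheme.Hom.appTop hε).hom r)
  rw [← this, ← Category.assoc Z.isoSpec.hom, ← hwe, Category.assoc]
  show (w ≫ e ≫ b).appTop.hom r = 0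
  rw [Scheme.Hom.comp_appTop, Scheme.Hom.comp_appTop, CommRingCat.hom_comp, CommRingCat.hom_comp,
    RingHom.comp_apply, RingHom.comp_apply, hs, map_zero]

end Groth.Agent.FrobH
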